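import Cfsg.Agent.Lib.KnownB.D4Inv.Moves
import Mathlib.FieldTheory.Finite.Basic
import Mathlib.GroupTheory.Sylow

/-!
The two classes of involutions of ³D₄(q), q even.
-/

set_option autoImplicit false
set_option maxRecDepth 20000
set_option maxHeartbeats 800000
set_option linter.all false
set_option Elab.async false

namespace CfsgLib.D4Inv

open CfsgLib.Chevalley CfsgLib.Chevalley.Tbl

variable {K : Type*} [Field K] [CharP K 2] [Finite K] {q : ℕ} (hq : IsPrimePow q) (hK : Nat.card K = q ^ 3)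

local notation "xx" => Data.D4.tbl.xU K
local notation "σ" => Twist.D4.fq hq hK
local notation "SS" => AbSetup.S (Twist.D4.setup hq hK)

theorem sq_eqs {a b c d e g : K} (hb : σ b = b) (he : σ e = e) (hg : σ g = g)
    (h : N σ a b c d e g * N σ a b c d e g = 1) :
    a * b = 0 ∧ (b = 0 → a * σ c + σ a * c = 0) ∧
      (b = 0 → c = 0 → a * σ d + σ a * σ (σ d) + σ (σ a) * d = 0) ∧
      (a = 0 → c = 0 → b * e = 0) := by
  rw [sq_collect (h3 hq hK) a b c d e g hb he hg, ← N_zero hq hK, N_eq_nf] at h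
  have key := nf_inj h
  refine ⟨?_, ?_, ?_, ?_⟩
  · simpa using key 19 (by simp)
  · intro hb0
    have := key 21 (by simp)
    simpa [hb0] using this
  · intro hb0 hc0
    have := key 22 (by simp)
    simpa [hb0, hc0] using this
  · intro ha hc
    have := key 23 (by simp)
    simpa [ha, hc] using this

omit [Finite K] in
theorem eq_of_add_zero {x y : K} (h : x + y = 0) : x = y := by
  rw [eq_neg_of_add_eq_zero_left h, CharTwo.neg_eq]

omit [CharP K 2] in
theorem fix_units {u : Kˣ} (h : σ (u : K) = u) : u ^ q = u := by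
  apply Units.ext
  rw [Units.val_pow_eq_pow_val, ← Twist.D4.fq_apply hq hK, h]

theorem exists_sqrt (x : K) : ∃ y : K, y * y = x := by
  have hr : ringChar K = 2 := ringChar.eq K 2
  obtain ⟨y, hy⟩ := FiniteField.isSquare_of_char_two hr x
  exact ⟨y, hy.symm⟩

theorem sqrt_fix {x y : K} (hy : y * y = x) (hx : σ x = x) : σ y = y := by
  have e : σ y * σ y = y * y := by rw [← map_mul, hy, hx]
  rcases mul_self_eq_mul_self_iff.mp e with h | h
  · exact h
  · rw [h, CharTwo.neg_eq]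

omit [CharP K 2] [Finite K] in
theorem tbl_ca : ∀ i : Fin 4, ∀ r ∈ [18, 13, 12, 23], Data.D4.tbl.ca i.val r =
    if r = 23 then (if i.val = 1 then 1 else 0)
    else if r = 18 then [2, -1, 0, 0].getD i.val 0
    else if r = 13 then [0, -1, 2, 0].getD i.val 0 else [0, -1, 0, 2].getD i.val 0 := by
  decide +kernel

theorem scaleA {a : K} (ha : a ≠ 0) : Cj hq hK (N σ a 0 0 0 0 0) (N σ 1 0 0 0 0 0) := by
  obtain ⟨y, hy⟩ := exists_sqrt a⁻¹
  have hy0 : y ≠ 0 := by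
    rintro rfl
    rw [mul_zero] at hy
    exact inv_ne_zero ha hy.symm
  have e : ∀ a : K, N σ a 0 0 0 0 0 =
      Data.D4.tbl.gprod [(18, a), (13, σ a), (12, σ (σ a))] := fun a => by
    simp only [N, gprod, map_zero, x_zero, Nat.reduceLT, mul_one, List.map_cons, List.map_nil,
      List.prod_cons, List.prod_nil]
  rw [e, e]
  refine torus_move hq hK (![Units.mk0 y hy0, 1, Units.mk0 y hy0 ^ q, (Units.mk0 y hy0 ^ q) ^ q] :
    Fin 4 → Kˣ) (one_pow q) rfl rfl (by simp) ?_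
  have hp : ∀ r ∈ [18, 13, 12, 23], ∀ f : Fin 4 → Kˣ,
      (∏ i : Fin Data.D4.tbl.rank, f i ^ Data.D4.tbl.ca i r) =
        ∏ i : Fin 4, f i ^ (if r = 23 then (if i.val = 1 then 1 else 0)
          else if r = 18 then [2, -1, 0, 0].getD i.val 0
          else if r = 13 then [0, -1, 2, 0].getD i.val 0 else [0, -1, 0, 2].getD i.val (0 : ℤ)) :=
    fun r hr f => Finset.prod_congr rfl fun i _ => congrArg (f i ^ ·) (tbl_ca i r hr)
  simp only [List.map_cons, List.map_nil]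
  rw [hp 18 (by simp), hp 13 (by simp), hp 12 (by simp)]
  simp only [Fin.prod_univ_four]
  have hyq : y ^ q = σ y := (Twist.D4.fq_apply hq hK y).symm
  have hsq : ∀ z : K, z ^ q = σ z := fun z => (Twist.D4.fq_apply hq hK z).symm
  have ha2 : y ^ 2 * a = 1 := by rw [pow_two, hy, inv_mul_cancel₀ ha]
  simp [hsq, ← map_pow, ← map_mul, ha2]

theorem scaleF {g : K} (hg : σ g = g) (hg0 : g ≠ 0) :
    Cj hq hK (N σ 0 0 0 0 0 g) (N σ 0 0 0 0 0 1) := by
  have e : ∀ g : K, N σ 0 0 0 0 0 g = Data.D4.tbl.gprod [(23, g)] := fun g => by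
    simp only [N, gprod, map_zero, x_zero, Nat.reduceLT, one_mul, List.map_cons, List.map_nil,
      List.prod_cons, List.prod_nil, mul_one]
  rw [e, e]
  refine torus_move hq hK (![1, Units.mk0 g⁻¹ (inv_ne_zero hg0), 1, 1] : Fin 4 → Kˣ)
    (fix_units hq hK (by show σ g⁻¹ = g⁻¹; rw [map_inv₀, hg])) (one_pow q).symm
    (by show (1 : Kˣ) = ((1 : Kˣ) ^ q) ^ q; simp) (by simp) ?_
  simp only [List.map_cons, List.map_nil]
  rw [show (∏ i : Fin Data.D4.tbl.rank,
      (![1, Units.mk0 g⁻¹ (inv_ne_zero hg0), 1, 1] : Fin 4 → Kˣ) i ^ Data.D4.tbl.ca i 23) =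
    ∏ i : Fin 4, (![1, Units.mk0 g⁻¹ (inv_ne_zero hg0), 1, 1] : Fin 4 → Kˣ) i ^
      (if i.val = 1 then (1 : ℤ) else 0) from
    Finset.prod_congr rfl fun i _ => congrArg _ (tbl_ca i 23 (by simp))]
  simp [Fin.prod_univ_four, hg0]

/-- Short root elements. -/
theorem case_A {a b c d e g : K} (ha : a ≠ 0) (hb : σ b = b) (he : σ e = e) (hg : σ g = g)
    (h : N σ a b c d e g * N σ a b c d e g = 1) :
    Cj hq hK (N σ a b c d e g) (N σ 1 0 0 0 0 0) := by
  obtain ⟨h19, h21, -, -⟩ := sq_eqs hq hK hb he hg h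
  have hb0 : b = 0 := (mul_eq_zero.mp h19).resolve_left ha
  subst hb0
  have hsa : σ a ≠ 0 := by simpa using ha
  have hssa : σ (σ a) ≠ 0 := by simpa using ha
  have hy : σ (c / a) = c / a := by
    rw [map_div₀, div_eq_div_iff hsa ha, mul_comm (σ c), mul_comm c]
    exact eq_of_add_zero (h21 rfl)
  obtain ⟨d1, e1, g1, he1, hg1, -, hc1⟩ := moveB hq hK (c / a) a 0 c d e g hy hb he hg
  rw [mul_div_cancel₀ _ ha, CharTwo.add_self_eq_zero] at hc1
  have h1 := cj_mul_self hq hK hc1 h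
  obtain ⟨-, -, h22, -⟩ := sq_eqs hq hK hb he1 hg1 h1
  have h22 := h22 rfl rfl
  obtain ⟨w, rfl⟩ : ∃ w, d1 = a * σ a * w :=
    ⟨d1 / (a * σ a), by rw [mul_div_cancel₀ _ (mul_ne_zero ha hsa)]⟩
  have hw : w + σ w + σ (σ w) = 0 := by
    simp only [map_mul, h3 hq hK] at h22
    refine (mul_eq_zero.mp (?_ : a * σ a * σ (σ a) * (w + σ w + σ (σ w)) = 0)).resolve_left
      (mul_ne_zero (mul_ne_zero ha hsa) hssa)
    rw [← h22]; ring
  obtain ⟨e2, g2, he2, hg2, -, -, hc2⟩ :=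
    moveC hq hK (a * σ w) a 0 0 (a * σ a * w) e1 g1 hb he1 hg1
  rw [show a * σ (a * σ w) + σ a * (a * σ w) + a * σ a * w = 0 by
    rw [map_mul]
    linear_combination a * σ a * hw] at hc2
  have kill : ∀ e g, σ e = e → σ g = g →
      Cj hq hK (N σ a 0 0 0 e g) (N σ a 0 0 0 0 g) := by
    intro e g he hg
    obtain ⟨e', g', -, -, h1, h2, hc⟩ := moveD hq hK (σ (σ (e / a))) a 0 0 0 e g hb he hg
    rw [h2 rfl rfl] at hc
    rwa [show e' = 0 by
      rw [h1, h3 hq hK]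
      simp only [map_div₀, h3 hq hK, he]
      field_simp
      linear_combination (2 : K) * e * CharTwo.two_eq_zero (R := K)] at hc
  obtain ⟨y, hy2⟩ := exists_sqrt (g2 / (a * σ a * σ (σ a)))
  have hyf : σ y = y := by
    refine sqrt_fix hq hK hy2 ?_
    simp only [map_div₀, map_mul, h3 hq hK, hg2]
    congr 1; ring
  obtain ⟨e3, g3, he3, hg3, -, hg3', hc3⟩ := moveC hq hK (a * y) a 0 0 0 0 g2 hb (map_zero _) hg2
  have hg30 : g3 = 0 := by
    rw [hg3' rfl rfl]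
    simp only [map_mul, map_zero, hyf, zero_mul, add_zero]
    have : a * σ a * σ (σ a) * (y * y) = g2 := by
      rw [hy2, mul_div_cancel₀ _ (mul_ne_zero (mul_ne_zero ha hsa) hssa)]
    linear_combination this + (a * σ a * σ (σ a) * y * y + g2) * CharTwo.two_eq_zero (R := K)
  rw [show a * σ (a * y) + σ a * (a * y) + 0 = 0 by
    rw [map_mul, hyf]
    linear_combination a * σ a * y * CharTwo.two_eq_zero (R := K), hg30] at hc3
  exact cj_trans hq hK hc1 (cj_trans hq hK hc2 (cj_trans hq hK (kill e2 g2 he2 hg2)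
    (cj_trans hq hK hc3 (cj_trans hq hK (kill e3 0 he3 (map_zero _)) (scaleA hq hK ha)))))

theorem case_C {c d e g : K} (hc : c ≠ 0) (he : σ e = e) (hg : σ g = g)
    (h : N σ 0 0 c d e g * N σ 0 0 c d e g = 1) :
    Cj hq hK (N σ 0 0 c d e g) (N σ 1 0 0 0 0 0) :=
  cj_trans hq hK (moveW0 hq hK c d e g) (case_A hq hK hc (map_zero _) hg he
    (cj_mul_self hq hK (moveW0 hq hK c d e g) h))

theorem case_D {d e g : K} (hd : d ≠ 0) (he : σ e = e) (hg : σ g = g)
    (h : N σ 0 0 0 d e g * N σ 0 0 0 d e g = 1) :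
    Cj hq hK (N σ 0 0 0 d e g) (N σ 1 0 0 0 0 0) := by
  have hsd : σ d ≠ 0 := by simpa using hd
  have hssd : σ (σ d) ≠ 0 := by simpa using hd
  obtain ⟨c1, d1, e1, g1, hc1', he1, hg1, hd1', he1', hg1', hc1⟩ :=
    moveA hq hK (e / σ d) 0 0 0 d e g (map_zero _) he hg
  obtain rfl : c1 = 0 := by rw [hc1']; simp
  obtain rfl : d = d1 := by rw [hd1']; simp
  obtain rfl : e1 = 0 := by
    rw [he1']
    simp only [map_div₀, map_zero, h3 hq hK, he, zero_mul, zero_add, add_zero]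
    rw [mul_div_cancel₀ _ hd, mul_div_cancel₀ _ hsd, mul_div_cancel₀ _ hssd]
    linear_combination (2 * e) * CharTwo.two_eq_zero (R := K)
  rw [hg1' rfl rfl] at hc1
  obtain ⟨e2, g2, he2, hg2, he2', hg2', hc2⟩ :=
    moveC hq hK (g / σ d) 0 0 0 d 0 g (map_zero _) (map_zero _) hg
  obtain rfl : e2 = 0 := by rw [he2']; simp
  obtain rfl : g2 = 0 := by
    rw [hg2' rfl rfl]
    simp only [map_div₀, map_zero, h3 hq hK, hg, zero_mul, zero_add, add_zero]
    rw [mul_div_cancel₀ _ hd, mul_div_cancel₀ _ hsd, mul_div_cancel₀ _ hssd]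
    linear_combination (2 * g) * CharTwo.two_eq_zero (R := K)
  simp only [map_zero, zero_mul, zero_add] at hc2
  have hh := cj_trans hq hK hc1 (cj_trans hq hK hc2 (moveW1 hq hK 0 d))
  exact cj_trans hq hK hh (case_C hq hK hsd (map_zero _) (map_zero _) (cj_mul_self hq hK hh h))

theorem case_E {e g : K} (he0 : e ≠ 0) (he : σ e = e) (hg : σ g = g) :
    Cj hq hK (N σ 0 0 0 0 e g) (N σ 0 0 0 0 0 1) := by
  obtain ⟨d1, e1, g1, -, -, h0, hc1⟩ := moveB hq hK (g / e) 0 0 0 0 e g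
    (by rw [map_div₀, he, hg]) (map_zero _) he hg
  obtain ⟨rfl, rfl, hg0⟩ := h0 rfl
  obtain rfl : g1 = 0 := by rw [hg0, mul_div_cancel₀ _ he0, CharTwo.add_self_eq_zero]
  rw [zero_mul, zero_add] at hc1
  exact cj_trans hq hK hc1 (cj_trans hq hK (moveW0 hq hK 0 0 e1 0) (scaleF hq hK he he0))

theorem case_B {b c d e g : K} (hb0 : b ≠ 0) (hb : σ b = b) (he : σ e = e) (hg : σ g = g)
    (h : N σ 0 b c d e g * N σ 0 b c d e g = 1) :
    Cj hq hK (N σ 0 b c d e g) (N σ 1 0 0 0 0 0) ∨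
      Cj hq hK (N σ 0 b c d e g) (N σ 0 0 0 0 0 1) := by
  obtain ⟨c1, d1, e1, g1, hc1', he1, hg1, -, -, -, hc1⟩ := moveA hq hK (c / b) 0 b c d e g hb he hg
  obtain rfl : c1 = 0 := by rw [hc1', mul_div_cancel₀ _ hb0, CharTwo.add_self_eq_zero]
  obtain ⟨-, -, -, hbe⟩ := sq_eqs hq hK hb he1 hg1 (cj_mul_self hq hK hc1 h)
  obtain rfl : e1 = 0 := (mul_eq_zero.mp (hbe rfl rfl)).resolve_left hb0
  have hy : σ (g1 / b) = g1 / b := by rw [map_div₀, hb, hg1]
  have hc2 := moveE hq hK (g1 / b) 0 b 0 d1 0 g1 hy hb (map_zero _) hg1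
  rw [mul_div_cancel₀ _ hb0, CharTwo.add_self_eq_zero] at hc2
  have hh := cj_trans hq hK hc1 (cj_trans hq hK hc2 (moveW1 hq hK b d1))
  by_cases hd : d1 = 0
  · subst hd
    rw [map_zero] at hh
    exact Or.inr (cj_trans hq hK hh (case_E hq hK hb0 hb (map_zero _)))
  · exact Or.inl (cj_trans hq hK hh
      (case_C hq hK (by simpa using hd) hb (map_zero _) (cj_mul_self hq hK hh h)))

theorem pos_class {x : GL Data.D4.tbl.I K}
    (hx : x ∈ Data.D4.tbl.rootGen K (fun r => Data.D4.tbl.half ≤ r)) (hf : x ∈ (SS).fix)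
    (h : x * x = 1) (hne : x ≠ 1) :
    Cj hq hK x (N σ 1 0 0 0 0 0) ∨ Cj hq hK x (N σ 0 0 0 0 0 1) := by
  obtain ⟨a, b, c, d, e, g, hb, he, hg, rfl⟩ := exists_coords hq hK hx hf
  by_cases ha : a = 0
  swap
  · exact Or.inl (case_A hq hK ha hb he hg h)
  subst ha
  by_cases hb0 : b = 0
  swap
  · exact case_B hq hK hb0 hb he hg h
  subst hb0
  by_cases hc : c = 0
  swap
  · exact Or.inl (case_C hq hK hc he hg h)
  subst hc
  by_cases hd : d = 0
  swap
  · exact Or.inl (case_D hq hK hd he hg h)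
  subst hd
  by_cases he0 : e = 0
  swap
  · exact Or.inr (case_E hq hK he0 he hg)
  subst he0
  exact Or.inr (scaleF hq hK hg fun hg0 => hne (by rw [hg0, N_zero hq hK]))

theorem first_invariant {a b c d e g : K} (hb : σ b = b) (he : σ e = e) (hg : σ g = g)
    {b' e' g' : K} (hb' : σ b' = b') (he' : σ e' = e') (hg' : σ g' = g') :
    ¬ (N σ a b c d e g * N σ 0 b' 0 0 e' g' = N σ 1 0 0 0 0 0 * N σ a b c d e g) := by
  intro h
  -- conjugation by each factor keeps the first coordinate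
  let P : GL Data.D4.tbl.I K → Prop := fun k => ∀ a b c d e g, σ b = b → σ e = e → σ g = g →
    ∃ b' c' d' e' g', σ b' = b' ∧ σ e' = e' ∧ σ g' = g' ∧
      k * N σ a b c d e g = N σ a b' c' d' e' g' * k
  have pA : ∀ x, P (N σ x 0 0 0 0 0) := fun x a b c d e g hb he hg =>
    ⟨b, _, _, _, _, hb, by simp only [map_add, map_mul, h3 hq hK, hb, he]; ring,
      by simp only [map_add, map_mul, h3 hq hK, hb, hg]; ring,
      conjA (h3 hq hK) x a b c d e g hb he hg⟩
  have pB : ∀ y, σ y = y → P (N σ 0 y 0 0 0 0) := fun y hy a b c d e g hb he hg =>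
    ⟨b, _, _, _, _, hb, by simp only [map_add, map_mul, h3 hq hK, hy, he]; ring,
      by simp only [map_add, map_mul, h3 hq hK, hb, hy, he, hg]; ring,
      conjB (h3 hq hK) y a b c d e g hb he hg hy⟩
  have pC : ∀ x, P (N σ 0 0 x 0 0 0) := fun x a b c d e g hb he hg =>
    ⟨b, _, _, _, _, hb, by simp only [map_add, map_mul, h3 hq hK, he]; ring,
      by simp only [map_add, map_mul, h3 hq hK, hb, hg]; ring,
      conjC (h3 hq hK) x a b c d e g hb he hg⟩
  have pD : ∀ x, P (N σ 0 0 0 x 0 0) := fun x a b c d e g hb he hg =>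
    ⟨b, c, d, _, _, hb, by simp only [map_add, map_mul, h3 hq hK, he]; ring,
      by simp only [map_add, map_mul, h3 hq hK, hb, hg]; ring,
      conjD (h3 hq hK) x a b c d e g hb he hg⟩
  have pE : ∀ y, σ y = y → P (N σ 0 0 0 0 y 0) := fun y hy a b c d e g hb he hg =>
    ⟨b, c, d, e, _, hb, he, by rw [map_add, map_mul, hb, hy, hg],
      conjE (h3 hq hK) y a b c d e g hb he hg hy⟩
  have pG : ∀ y, σ y = y → P (N σ 0 0 0 0 0 y) := fun y hy a b c d e g hb he hg =>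
    ⟨b, c, d, e, g, hb, he, hg, moveG hq hK y a b c d e g hy⟩
  have pM : ∀ k l, P k → P l → P (k * l) := fun k l hk hl a b c d e g hb he hg => by
    obtain ⟨b1, c1, d1, e1, g1, hb1, he1, hg1, h1⟩ := hl a b c d e g hb he hg
    obtain ⟨b2, c2, d2, e2, g2, hb2, he2, hg2, h2⟩ := hk a b1 c1 d1 e1 g1 hb1 he1 hg1
    exact ⟨b2, c2, d2, e2, g2, hb2, he2, hg2, by rw [mul_assoc, h1, ← mul_assoc, h2, mul_assoc]⟩
  have split : N σ a b c d e g = N σ a 0 0 0 0 0 * (N σ 0 b 0 0 0 0 * (N σ 0 0 c 0 0 0 *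
      (N σ 0 0 0 d 0 0 * (N σ 0 0 0 0 e 0 * N σ 0 0 0 0 0 g)))) := by
    simp only [N, map_zero, x_zero, Nat.reduceLT, mul_one, one_mul, mul_assoc]
  have hP : P (N σ a b c d e g) := by
    rw [split]
    exact pM _ _ (pA a) (pM _ _ (pB b hb) (pM _ _ (pC c) (pM _ _ (pD d) (pM _ _ (pE e he) (pG g hg)))))
  obtain ⟨b2, c2, d2, e2, g2, -, -, -, h2⟩ := hP 0 b' 0 0 e' g' hb' he' hg'
  rw [h] at h2
  exact one_ne_zero (N_inj hq hK (mul_right_cancel h2)).1

theorem orbit_23 : ∀ k : ℕ, k < 24 → Data.D4.graph.ρ k = k → 12 ≤ k → k = 14 ∨ k = 22 ∨ k = 23 := by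
  decide +kernel

theorem not_cj : ¬ Cj hq hK (N σ 0 0 0 0 0 1) (N σ 1 0 0 0 0 0) := by
  rintro ⟨h, hh, e⟩
  have hV := Data.D4.valid
  obtain ⟨a, ha, haf, n, hn, hnf, w, hw, hm, u, hu, huf, rfl⟩ := (SS).fix_canonical hh
  -- the positive part commutes with the highest root element
  obtain ⟨a', b', c', d', e', g', hb', he', hg', rfl⟩ :=
    exists_coords hq hK (rootGen_mono (fun r _ h => h.2.1) hu) huf
  have hF : N σ 0 0 0 0 0 1 = xx 23 1 := by
    simp only [N, map_zero, x_zero, Nat.reduceLT, one_mul]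
  have hu' : N σ a' b' c' d' e' g' * xx 23 1 = xx 23 1 * N σ a' b' c' d' e' g' := by
    rw [← hF]; exact (moveG hq hK 1 a' b' c' d' e' g' (map_one _)).symm
  have hr : (23 : ℕ) < Data.D4.tbl.n := lt24 (by norm_num)
  obtain ⟨κ, hκ⟩ := hm.conj ⟨23, hr⟩
  have e2 := (hκ 1).1
  rw [show ((⟨23, hr⟩ : Fin Data.D4.tbl.n) : ℕ) = 23 from rfl] at e2
  set k := w ⟨23, hr⟩ with hk
  clear_value k
  have e3 : a * xx k ((κ : K) * 1) = N σ 1 0 0 0 0 0 * a := by
    refine mul_right_cancel (b := n * N σ a' b' c' d' e' g') ?_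
    calc a * xx k ((κ : K) * 1) * (n * N σ a' b' c' d' e' g')
        = a * (xx k ((κ : K) * 1) * n) * N σ a' b' c' d' e' g' := by simp only [mul_assoc]
      _ = a * (n * xx 23 1) * N σ a' b' c' d' e' g' := by rw [e2]
      _ = a * n * (N σ a' b' c' d' e' g' * xx 23 1) := by rw [hu']; simp only [mul_assoc]
      _ = N σ 1 0 0 0 0 0 * (a * n * N σ a' b' c' d' e' g') := by rw [← hF, ← e]; simp only [mul_assoc]
      _ = _ := by simp only [mul_assoc]
  have hx : xx k ((κ : K) * 1) = a⁻¹ * (N σ 1 0 0 0 0 0 * a) := by rw [← e3, inv_mul_cancel_left]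
  have hAf := N_fix hq hK (a := (1 : K)) (b := 0) (c := 0) (d := 0) (e := 0) (g := 0)
    (map_zero _) (map_zero _) (map_zero _)
  have hxp : xx k ((κ : K) * 1) ∈ Data.D4.tbl.rootGen K (fun r => Data.D4.tbl.half ≤ r) :=
    hx ▸ mul_mem (inv_mem ha) (mul_mem (N_pos hq hK 1 0 0 0 0 0) ha)
  have hxf : xx k ((κ : K) * 1) ∈ (SS).fix := hx ▸ mul_mem (inv_mem haf) (mul_mem hAf haf)
  have hκ0 : (κ : K) * 1 ≠ 0 := mul_ne_zero κ.ne_zero one_ne_zero
  have hk24 : (k : ℕ) < 24 := lt_of_lt_of_eq k.2 (show Data.D4.tbl.n = 24 by decide +kernel)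
  have hpos : 12 ≤ (k : ℕ) := by
    by_contra hlt
    have := eq_one_of_pos_neg hV hxp (xU_mem_rootGen (P := fun r => r < Data.D4.tbl.half) k.2
      (lt_of_lt_of_eq (not_le.mp hlt) (show (12 : ℕ) = Data.D4.tbl.half by decide +kernel)) _)
    rw [← xU_zero hV k.2] at this
    exact hκ0 (xU_inj hV k.2 this)
  have hρ : Data.D4.graph.ρ k = k := by
    have hwρ := ((SS).mem_W1_iff.mp hw).2
    have e23 : (SS).ρ ⟨23, hr⟩ = ⟨23, hr⟩ := Fin.ext (by
      show Data.D4.graph.ρ 23 = 23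
      decide +kernel)
    have := Equiv.ext_iff.mp (mul_inv_eq_iff_eq_mul.mp hwρ) ⟨23, hr⟩
    rw [Equiv.Perm.mul_apply, Equiv.Perm.mul_apply, e23] at this
    rw [← hk] at this
    exact congrArg Fin.val this
  obtain ⟨α, β, γ, δ, ε, η, hβ, hε, hη, rfl⟩ := exists_coords hq hK ha haf
  obtain ⟨a₁, b₁, c₁, d₁, e₁, g₁, hb₁, he₁, hg₁, hN⟩ := exists_coords hq hK hxp hxf
  have hzero : a₁ = 0 ∧ c₁ = 0 ∧ d₁ = 0 := by
    have hN' := hN
    rcases orbit_23 k hk24 hρ hpos with hk' | hk' | hk' <;> rw [hk'] at hN'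
    · rw [show xx 14 ((κ : K) * 1) = N σ 0 ((κ : K) * 1) 0 0 0 0 by
        simp only [N, map_zero, x_zero, Nat.reduceLT, one_mul, mul_one]] at hN'
      obtain ⟨h1, -, h2, h3', -, -⟩ := N_inj hq hK hN'
      exact ⟨h1.symm, h2.symm, h3'.symm⟩
    · rw [show xx 22 ((κ : K) * 1) = N σ 0 0 0 0 ((κ : K) * 1) 0 by
        simp only [N, map_zero, x_zero, Nat.reduceLT, one_mul, mul_one]] at hN'
      obtain ⟨h1, -, h2, h3', -, -⟩ := N_inj hq hK hN'
      exact ⟨h1.symm, h2.symm, h3'.symm⟩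
    · rw [show xx 23 ((κ : K) * 1) = N σ 0 0 0 0 0 ((κ : K) * 1) by
        simp only [N, map_zero, x_zero, Nat.reduceLT, one_mul, mul_one]] at hN'
      obtain ⟨h1, -, h2, h3', -, -⟩ := N_inj hq hK hN'
      exact ⟨h1.symm, h2.symm, h3'.symm⟩
  obtain ⟨rfl, rfl, rfl⟩ := hzero
  rw [hN] at e3
  exact first_invariant hq hK hβ hε hη hb₁ he₁ hg₁ e3

end CfsgLib.D4Inv
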