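import Cfsg.Agent.Lib.Chevalley.RootGen
import Cfsg.Agent.Lib.Chevalley.Data.D4
import Cfsg.Agent.Lib.Chevalley.Data.D4Comm
import Mathlib.Algebra.CharP.Two

/-!
Collection rules for the positive roots of type D₄ in characteristic two.
-/

set_option autoImplicit false
set_option maxRecDepth 20000
set_option Elab.async false

namespace CfsgLib.D4Inv

open CfsgLib.Chevalley CfsgLib.Chevalley.Tbl

variable {K : Type*} [Field K] [CharP K 2]

local notation "xx" => Data.D4.tbl.xU K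

/-- Two roots with at most one term in the commutator. -/
def swChk (s r : ℕ) (c : Option ℕ) : Bool :=
  Nat.blt s Data.D4.tbl.n && Nat.blt r Data.D4.tbl.n && !Nat.beq r s && !Nat.beq r (Data.D4.tbl.neg s) &&
    match Data.D4.tbl.commT s r, c with
    | [], none => true
    | [(c', z, i, j)], some c => Nat.beq c' c && decide (z = 1 ∨ z = -1) && Nat.beq i 1 && Nat.beq j 1
    | _, _ => false

theorem sw_aux {s r : ℕ} {c : Option ℕ} (h : swChk s r c = true) (u t : K) :
    xx r u * xx s t = xx s t * xx r u * (match c with | none => 1 | some c => xx c (t * u)) := by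
  simp only [swChk, Bool.and_eq_true, Bool.not_eq_true'] at h
  obtain ⟨⟨⟨⟨hs, hr⟩, hne⟩, hneg⟩, hc⟩ := h
  rw [comm_xU Data.D4.valid Data.D4.chkComm (Nat.le_of_ble_eq_true hs) (Nat.le_of_ble_eq_true hr)
    (fun e => by rw [e, Nat.beq_refl] at hne; simp at hne)
    (fun e => by rw [e, Nat.beq_refl] at hneg; simp at hneg)]
  congr 1
  cases c with
  | none =>
    split at hc
    · rename_i h1 _; simp [h1]
    · simp at *
    · exact absurd hc (by simp)
  | some c =>
    split at hc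
    · simp at *
    · rename_i c' z i j c'' h1 h2
      simp only [Bool.and_eq_true, decide_eq_true_eq] at hc
      obtain ⟨⟨⟨e1, e2⟩, e3⟩, e4⟩ := hc
      obtain rfl := Nat.eq_of_beq_eq_true e1
      obtain rfl := Nat.eq_of_beq_eq_true e3
      obtain rfl := Nat.eq_of_beq_eq_true e4
      obtain rfl := Option.some.inj h2
      rcases e2 with rfl | rfl <;> simp [h1, CharTwo.neg_eq]
    · exact absurd hc (by simp)

theorem sw_13_12 (u t : K) : xx 13 u * xx 12 t = xx 12 t * xx 13 u :=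
  (sw_aux (s := 12) (r := 13) (c := none) (by decide +kernel) u t).trans (mul_one _)

theorem sw_13_12' (u t : K) (z : GL Data.D4.tbl.I K) : xx 13 u * (xx 12 t * z) = xx 12 t * (xx 13 u * z) := by
  rw [← mul_assoc, sw_13_12, mul_assoc]

theorem sw_14_12 (u t : K) : xx 14 u * xx 12 t = xx 12 t * (xx 14 u * xx 15 (t * u)) :=
  (sw_aux (s := 12) (r := 14) (c := some 15) (by decide +kernel) u t).trans (mul_assoc _ _ _)

theorem sw_14_12' (u t : K) (z : GL Data.D4.tbl.I K) :
    xx 14 u * (xx 12 t * z) = xx 12 t * (xx 14 u * (xx 15 (t * u) * z)) := by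
  rw [← mul_assoc, sw_14_12, mul_assoc, mul_assoc]

theorem sw_15_12 (u t : K) : xx 15 u * xx 12 t = xx 12 t * xx 15 u :=
  (sw_aux (s := 12) (r := 15) (c := none) (by decide +kernel) u t).trans (mul_one _)

theorem sw_15_12' (u t : K) (z : GL Data.D4.tbl.I K) : xx 15 u * (xx 12 t * z) = xx 12 t * (xx 15 u * z) := by
  rw [← mul_assoc, sw_15_12, mul_assoc]

theorem sw_16_12 (u t : K) : xx 16 u * xx 12 t = xx 12 t * (xx 16 u * xx 17 (t * u)) :=
  (sw_aux (s := 12) (r := 16) (c := some 17) (by decide +kernel) u t).trans (mul_assoc _ _ _)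

theorem sw_16_12' (u t : K) (z : GL Data.D4.tbl.I K) :
    xx 16 u * (xx 12 t * z) = xx 12 t * (xx 16 u * (xx 17 (t * u) * z)) := by
  rw [← mul_assoc, sw_16_12, mul_assoc, mul_assoc]

theorem sw_17_12 (u t : K) : xx 17 u * xx 12 t = xx 12 t * xx 17 u :=
  (sw_aux (s := 12) (r := 17) (c := none) (by decide +kernel) u t).trans (mul_one _)

theorem sw_17_12' (u t : K) (z : GL Data.D4.tbl.I K) : xx 17 u * (xx 12 t * z) = xx 12 t * (xx 17 u * z) := by
  rw [← mul_assoc, sw_17_12, mul_assoc]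

theorem sw_18_12 (u t : K) : xx 18 u * xx 12 t = xx 12 t * xx 18 u :=
  (sw_aux (s := 12) (r := 18) (c := none) (by decide +kernel) u t).trans (mul_one _)

theorem sw_18_12' (u t : K) (z : GL Data.D4.tbl.I K) : xx 18 u * (xx 12 t * z) = xx 12 t * (xx 18 u * z) := by
  rw [← mul_assoc, sw_18_12, mul_assoc]

theorem sw_19_12 (u t : K) : xx 19 u * xx 12 t = xx 12 t * (xx 19 u * xx 20 (t * u)) :=
  (sw_aux (s := 12) (r := 19) (c := some 20) (by decide +kernel) u t).trans (mul_assoc _ _ _)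

theorem sw_19_12' (u t : K) (z : GL Data.D4.tbl.I K) :
    xx 19 u * (xx 12 t * z) = xx 12 t * (xx 19 u * (xx 20 (t * u) * z)) := by
  rw [← mul_assoc, sw_19_12, mul_assoc, mul_assoc]

theorem sw_20_12 (u t : K) : xx 20 u * xx 12 t = xx 12 t * xx 20 u :=
  (sw_aux (s := 12) (r := 20) (c := none) (by decide +kernel) u t).trans (mul_one _)

theorem sw_20_12' (u t : K) (z : GL Data.D4.tbl.I K) : xx 20 u * (xx 12 t * z) = xx 12 t * (xx 20 u * z) := by
  rw [← mul_assoc, sw_20_12, mul_assoc]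

theorem sw_21_12 (u t : K) : xx 21 u * xx 12 t = xx 12 t * (xx 21 u * xx 22 (t * u)) :=
  (sw_aux (s := 12) (r := 21) (c := some 22) (by decide +kernel) u t).trans (mul_assoc _ _ _)

theorem sw_21_12' (u t : K) (z : GL Data.D4.tbl.I K) :
    xx 21 u * (xx 12 t * z) = xx 12 t * (xx 21 u * (xx 22 (t * u) * z)) := by
  rw [← mul_assoc, sw_21_12, mul_assoc, mul_assoc]

theorem sw_22_12 (u t : K) : xx 22 u * xx 12 t = xx 12 t * xx 22 u :=
  (sw_aux (s := 12) (r := 22) (c := none) (by decide +kernel) u t).trans (mul_one _)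

theorem sw_22_12' (u t : K) (z : GL Data.D4.tbl.I K) : xx 22 u * (xx 12 t * z) = xx 12 t * (xx 22 u * z) := by
  rw [← mul_assoc, sw_22_12, mul_assoc]

theorem sw_23_12 (u t : K) : xx 23 u * xx 12 t = xx 12 t * xx 23 u :=
  (sw_aux (s := 12) (r := 23) (c := none) (by decide +kernel) u t).trans (mul_one _)

theorem sw_23_12' (u t : K) (z : GL Data.D4.tbl.I K) : xx 23 u * (xx 12 t * z) = xx 12 t * (xx 23 u * z) := by
  rw [← mul_assoc, sw_23_12, mul_assoc]

theorem sw_12_13 (u t : K) : xx 12 u * xx 13 t = xx 13 t * xx 12 u :=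
  (sw_aux (s := 13) (r := 12) (c := none) (by decide +kernel) u t).trans (mul_one _)

theorem sw_12_13' (u t : K) (z : GL Data.D4.tbl.I K) : xx 12 u * (xx 13 t * z) = xx 13 t * (xx 12 u * z) := by
  rw [← mul_assoc, sw_12_13, mul_assoc]

theorem sw_14_13 (u t : K) : xx 14 u * xx 13 t = xx 13 t * (xx 14 u * xx 16 (t * u)) :=
  (sw_aux (s := 13) (r := 14) (c := some 16) (by decide +kernel) u t).trans (mul_assoc _ _ _)

theorem sw_14_13' (u t : K) (z : GL Data.D4.tbl.I K) :
    xx 14 u * (xx 13 t * z) = xx 13 t * (xx 14 u * (xx 16 (t * u) * z)) := by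
  rw [← mul_assoc, sw_14_13, mul_assoc, mul_assoc]

theorem sw_15_13 (u t : K) : xx 15 u * xx 13 t = xx 13 t * (xx 15 u * xx 17 (t * u)) :=
  (sw_aux (s := 13) (r := 15) (c := some 17) (by decide +kernel) u t).trans (mul_assoc _ _ _)

theorem sw_15_13' (u t : K) (z : GL Data.D4.tbl.I K) :
    xx 15 u * (xx 13 t * z) = xx 13 t * (xx 15 u * (xx 17 (t * u) * z)) := by
  rw [← mul_assoc, sw_15_13, mul_assoc, mul_assoc]

theorem sw_16_13 (u t : K) : xx 16 u * xx 13 t = xx 13 t * xx 16 u :=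
  (sw_aux (s := 13) (r := 16) (c := none) (by decide +kernel) u t).trans (mul_one _)

theorem sw_16_13' (u t : K) (z : GL Data.D4.tbl.I K) : xx 16 u * (xx 13 t * z) = xx 13 t * (xx 16 u * z) := by
  rw [← mul_assoc, sw_16_13, mul_assoc]

theorem sw_17_13 (u t : K) : xx 17 u * xx 13 t = xx 13 t * xx 17 u :=
  (sw_aux (s := 13) (r := 17) (c := none) (by decide +kernel) u t).trans (mul_one _)

theorem sw_17_13' (u t : K) (z : GL Data.D4.tbl.I K) : xx 17 u * (xx 13 t * z) = xx 13 t * (xx 17 u * z) := by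
  rw [← mul_assoc, sw_17_13, mul_assoc]

theorem sw_18_13 (u t : K) : xx 18 u * xx 13 t = xx 13 t * xx 18 u :=
  (sw_aux (s := 13) (r := 18) (c := none) (by decide +kernel) u t).trans (mul_one _)

theorem sw_18_13' (u t : K) (z : GL Data.D4.tbl.I K) : xx 18 u * (xx 13 t * z) = xx 13 t * (xx 18 u * z) := by
  rw [← mul_assoc, sw_18_13, mul_assoc]

theorem sw_19_13 (u t : K) : xx 19 u * xx 13 t = xx 13 t * (xx 19 u * xx 21 (t * u)) :=
  (sw_aux (s := 13) (r := 19) (c := some 21) (by decide +kernel) u t).trans (mul_assoc _ _ _)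

theorem sw_19_13' (u t : K) (z : GL Data.D4.tbl.I K) :
    xx 19 u * (xx 13 t * z) = xx 13 t * (xx 19 u * (xx 21 (t * u) * z)) := by
  rw [← mul_assoc, sw_19_13, mul_assoc, mul_assoc]

theorem sw_20_13 (u t : K) : xx 20 u * xx 13 t = xx 13 t * (xx 20 u * xx 22 (t * u)) :=
  (sw_aux (s := 13) (r := 20) (c := some 22) (by decide +kernel) u t).trans (mul_assoc _ _ _)

theorem sw_20_13' (u t : K) (z : GL Data.D4.tbl.I K) :
    xx 20 u * (xx 13 t * z) = xx 13 t * (xx 20 u * (xx 22 (t * u) * z)) := by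
  rw [← mul_assoc, sw_20_13, mul_assoc, mul_assoc]

theorem sw_21_13 (u t : K) : xx 21 u * xx 13 t = xx 13 t * xx 21 u :=
  (sw_aux (s := 13) (r := 21) (c := none) (by decide +kernel) u t).trans (mul_one _)

theorem sw_21_13' (u t : K) (z : GL Data.D4.tbl.I K) : xx 21 u * (xx 13 t * z) = xx 13 t * (xx 21 u * z) := by
  rw [← mul_assoc, sw_21_13, mul_assoc]

theorem sw_22_13 (u t : K) : xx 22 u * xx 13 t = xx 13 t * xx 22 u :=
  (sw_aux (s := 13) (r := 22) (c := none) (by decide +kernel) u t).trans (mul_one _)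

theorem sw_22_13' (u t : K) (z : GL Data.D4.tbl.I K) : xx 22 u * (xx 13 t * z) = xx 13 t * (xx 22 u * z) := by
  rw [← mul_assoc, sw_22_13, mul_assoc]

theorem sw_23_13 (u t : K) : xx 23 u * xx 13 t = xx 13 t * xx 23 u :=
  (sw_aux (s := 13) (r := 23) (c := none) (by decide +kernel) u t).trans (mul_one _)

theorem sw_23_13' (u t : K) (z : GL Data.D4.tbl.I K) : xx 23 u * (xx 13 t * z) = xx 13 t * (xx 23 u * z) := by
  rw [← mul_assoc, sw_23_13, mul_assoc]

theorem sw_12_14 (u t : K) : xx 12 u * xx 14 t = xx 14 t * (xx 12 u * xx 15 (t * u)) :=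
  (sw_aux (s := 14) (r := 12) (c := some 15) (by decide +kernel) u t).trans (mul_assoc _ _ _)

theorem sw_12_14' (u t : K) (z : GL Data.D4.tbl.I K) :
    xx 12 u * (xx 14 t * z) = xx 14 t * (xx 12 u * (xx 15 (t * u) * z)) := by
  rw [← mul_assoc, sw_12_14, mul_assoc, mul_assoc]

theorem sw_13_14 (u t : K) : xx 13 u * xx 14 t = xx 14 t * (xx 13 u * xx 16 (t * u)) :=
  (sw_aux (s := 14) (r := 13) (c := some 16) (by decide +kernel) u t).trans (mul_assoc _ _ _)

theorem sw_13_14' (u t : K) (z : GL Data.D4.tbl.I K) :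
    xx 13 u * (xx 14 t * z) = xx 14 t * (xx 13 u * (xx 16 (t * u) * z)) := by
  rw [← mul_assoc, sw_13_14, mul_assoc, mul_assoc]

theorem sw_15_14 (u t : K) : xx 15 u * xx 14 t = xx 14 t * xx 15 u :=
  (sw_aux (s := 14) (r := 15) (c := none) (by decide +kernel) u t).trans (mul_one _)

theorem sw_15_14' (u t : K) (z : GL Data.D4.tbl.I K) : xx 15 u * (xx 14 t * z) = xx 14 t * (xx 15 u * z) := by
  rw [← mul_assoc, sw_15_14, mul_assoc]

theorem sw_16_14 (u t : K) : xx 16 u * xx 14 t = xx 14 t * xx 16 u :=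
  (sw_aux (s := 14) (r := 16) (c := none) (by decide +kernel) u t).trans (mul_one _)

theorem sw_16_14' (u t : K) (z : GL Data.D4.tbl.I K) : xx 16 u * (xx 14 t * z) = xx 14 t * (xx 16 u * z) := by
  rw [← mul_assoc, sw_16_14, mul_assoc]

theorem sw_17_14 (u t : K) : xx 17 u * xx 14 t = xx 14 t * xx 17 u :=
  (sw_aux (s := 14) (r := 17) (c := none) (by decide +kernel) u t).trans (mul_one _)

theorem sw_17_14' (u t : K) (z : GL Data.D4.tbl.I K) : xx 17 u * (xx 14 t * z) = xx 14 t * (xx 17 u * z) := by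
  rw [← mul_assoc, sw_17_14, mul_assoc]

theorem sw_18_14 (u t : K) : xx 18 u * xx 14 t = xx 14 t * (xx 18 u * xx 19 (t * u)) :=
  (sw_aux (s := 14) (r := 18) (c := some 19) (by decide +kernel) u t).trans (mul_assoc _ _ _)

theorem sw_18_14' (u t : K) (z : GL Data.D4.tbl.I K) :
    xx 18 u * (xx 14 t * z) = xx 14 t * (xx 18 u * (xx 19 (t * u) * z)) := by
  rw [← mul_assoc, sw_18_14, mul_assoc, mul_assoc]

theorem sw_19_14 (u t : K) : xx 19 u * xx 14 t = xx 14 t * xx 19 u :=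
  (sw_aux (s := 14) (r := 19) (c := none) (by decide +kernel) u t).trans (mul_one _)

theorem sw_19_14' (u t : K) (z : GL Data.D4.tbl.I K) : xx 19 u * (xx 14 t * z) = xx 14 t * (xx 19 u * z) := by
  rw [← mul_assoc, sw_19_14, mul_assoc]

theorem sw_20_14 (u t : K) : xx 20 u * xx 14 t = xx 14 t * xx 20 u :=
  (sw_aux (s := 14) (r := 20) (c := none) (by decide +kernel) u t).trans (mul_one _)

theorem sw_20_14' (u t : K) (z : GL Data.D4.tbl.I K) : xx 20 u * (xx 14 t * z) = xx 14 t * (xx 20 u * z) := by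
  rw [← mul_assoc, sw_20_14, mul_assoc]

theorem sw_21_14 (u t : K) : xx 21 u * xx 14 t = xx 14 t * xx 21 u :=
  (sw_aux (s := 14) (r := 21) (c := none) (by decide +kernel) u t).trans (mul_one _)

theorem sw_21_14' (u t : K) (z : GL Data.D4.tbl.I K) : xx 21 u * (xx 14 t * z) = xx 14 t * (xx 21 u * z) := by
  rw [← mul_assoc, sw_21_14, mul_assoc]

theorem sw_22_14 (u t : K) : xx 22 u * xx 14 t = xx 14 t * (xx 22 u * xx 23 (t * u)) :=
  (sw_aux (s := 14) (r := 22) (c := some 23) (by decide +kernel) u t).trans (mul_assoc _ _ _)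

theorem sw_22_14' (u t : K) (z : GL Data.D4.tbl.I K) :
    xx 22 u * (xx 14 t * z) = xx 14 t * (xx 22 u * (xx 23 (t * u) * z)) := by
  rw [← mul_assoc, sw_22_14, mul_assoc, mul_assoc]

theorem sw_23_14 (u t : K) : xx 23 u * xx 14 t = xx 14 t * xx 23 u :=
  (sw_aux (s := 14) (r := 23) (c := none) (by decide +kernel) u t).trans (mul_one _)

theorem sw_23_14' (u t : K) (z : GL Data.D4.tbl.I K) : xx 23 u * (xx 14 t * z) = xx 14 t * (xx 23 u * z) := by
  rw [← mul_assoc, sw_23_14, mul_assoc]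

theorem sw_12_15 (u t : K) : xx 12 u * xx 15 t = xx 15 t * xx 12 u :=
  (sw_aux (s := 15) (r := 12) (c := none) (by decide +kernel) u t).trans (mul_one _)

theorem sw_12_15' (u t : K) (z : GL Data.D4.tbl.I K) : xx 12 u * (xx 15 t * z) = xx 15 t * (xx 12 u * z) := by
  rw [← mul_assoc, sw_12_15, mul_assoc]

theorem sw_13_15 (u t : K) : xx 13 u * xx 15 t = xx 15 t * (xx 13 u * xx 17 (t * u)) :=
  (sw_aux (s := 15) (r := 13) (c := some 17) (by decide +kernel) u t).trans (mul_assoc _ _ _)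

theorem sw_13_15' (u t : K) (z : GL Data.D4.tbl.I K) :
    xx 13 u * (xx 15 t * z) = xx 15 t * (xx 13 u * (xx 17 (t * u) * z)) := by
  rw [← mul_assoc, sw_13_15, mul_assoc, mul_assoc]

theorem sw_14_15 (u t : K) : xx 14 u * xx 15 t = xx 15 t * xx 14 u :=
  (sw_aux (s := 15) (r := 14) (c := none) (by decide +kernel) u t).trans (mul_one _)

theorem sw_14_15' (u t : K) (z : GL Data.D4.tbl.I K) : xx 14 u * (xx 15 t * z) = xx 15 t * (xx 14 u * z) := by
  rw [← mul_assoc, sw_14_15, mul_assoc]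

theorem sw_16_15 (u t : K) : xx 16 u * xx 15 t = xx 15 t * xx 16 u :=
  (sw_aux (s := 15) (r := 16) (c := none) (by decide +kernel) u t).trans (mul_one _)

theorem sw_16_15' (u t : K) (z : GL Data.D4.tbl.I K) : xx 16 u * (xx 15 t * z) = xx 15 t * (xx 16 u * z) := by
  rw [← mul_assoc, sw_16_15, mul_assoc]

theorem sw_17_15 (u t : K) : xx 17 u * xx 15 t = xx 15 t * xx 17 u :=
  (sw_aux (s := 15) (r := 17) (c := none) (by decide +kernel) u t).trans (mul_one _)

theorem sw_17_15' (u t : K) (z : GL Data.D4.tbl.I K) : xx 17 u * (xx 15 t * z) = xx 15 t * (xx 17 u * z) := by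
  rw [← mul_assoc, sw_17_15, mul_assoc]

theorem sw_18_15 (u t : K) : xx 18 u * xx 15 t = xx 15 t * (xx 18 u * xx 20 (t * u)) :=
  (sw_aux (s := 15) (r := 18) (c := some 20) (by decide +kernel) u t).trans (mul_assoc _ _ _)

theorem sw_18_15' (u t : K) (z : GL Data.D4.tbl.I K) :
    xx 18 u * (xx 15 t * z) = xx 15 t * (xx 18 u * (xx 20 (t * u) * z)) := by
  rw [← mul_assoc, sw_18_15, mul_assoc, mul_assoc]

theorem sw_19_15 (u t : K) : xx 19 u * xx 15 t = xx 15 t * xx 19 u :=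
  (sw_aux (s := 15) (r := 19) (c := none) (by decide +kernel) u t).trans (mul_one _)

theorem sw_19_15' (u t : K) (z : GL Data.D4.tbl.I K) : xx 19 u * (xx 15 t * z) = xx 15 t * (xx 19 u * z) := by
  rw [← mul_assoc, sw_19_15, mul_assoc]

theorem sw_20_15 (u t : K) : xx 20 u * xx 15 t = xx 15 t * xx 20 u :=
  (sw_aux (s := 15) (r := 20) (c := none) (by decide +kernel) u t).trans (mul_one _)

theorem sw_20_15' (u t : K) (z : GL Data.D4.tbl.I K) : xx 20 u * (xx 15 t * z) = xx 15 t * (xx 20 u * z) := by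
  rw [← mul_assoc, sw_20_15, mul_assoc]

theorem sw_21_15 (u t : K) : xx 21 u * xx 15 t = xx 15 t * (xx 21 u * xx 23 (t * u)) :=
  (sw_aux (s := 15) (r := 21) (c := some 23) (by decide +kernel) u t).trans (mul_assoc _ _ _)

theorem sw_21_15' (u t : K) (z : GL Data.D4.tbl.I K) :
    xx 21 u * (xx 15 t * z) = xx 15 t * (xx 21 u * (xx 23 (t * u) * z)) := by
  rw [← mul_assoc, sw_21_15, mul_assoc, mul_assoc]

theorem sw_22_15 (u t : K) : xx 22 u * xx 15 t = xx 15 t * xx 22 u :=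
  (sw_aux (s := 15) (r := 22) (c := none) (by decide +kernel) u t).trans (mul_one _)

theorem sw_22_15' (u t : K) (z : GL Data.D4.tbl.I K) : xx 22 u * (xx 15 t * z) = xx 15 t * (xx 22 u * z) := by
  rw [← mul_assoc, sw_22_15, mul_assoc]

theorem sw_23_15 (u t : K) : xx 23 u * xx 15 t = xx 15 t * xx 23 u :=
  (sw_aux (s := 15) (r := 23) (c := none) (by decide +kernel) u t).trans (mul_one _)

theorem sw_23_15' (u t : K) (z : GL Data.D4.tbl.I K) : xx 23 u * (xx 15 t * z) = xx 15 t * (xx 23 u * z) := by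
  rw [← mul_assoc, sw_23_15, mul_assoc]

theorem sw_12_16 (u t : K) : xx 12 u * xx 16 t = xx 16 t * (xx 12 u * xx 17 (t * u)) :=
  (sw_aux (s := 16) (r := 12) (c := some 17) (by decide +kernel) u t).trans (mul_assoc _ _ _)

theorem sw_12_16' (u t : K) (z : GL Data.D4.tbl.I K) :
    xx 12 u * (xx 16 t * z) = xx 16 t * (xx 12 u * (xx 17 (t * u) * z)) := by
  rw [← mul_assoc, sw_12_16, mul_assoc, mul_assoc]

theorem sw_13_16 (u t : K) : xx 13 u * xx 16 t = xx 16 t * xx 13 u :=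
  (sw_aux (s := 16) (r := 13) (c := none) (by decide +kernel) u t).trans (mul_one _)

theorem sw_13_16' (u t : K) (z : GL Data.D4.tbl.I K) : xx 13 u * (xx 16 t * z) = xx 16 t * (xx 13 u * z) := by
  rw [← mul_assoc, sw_13_16, mul_assoc]

theorem sw_14_16 (u t : K) : xx 14 u * xx 16 t = xx 16 t * xx 14 u :=
  (sw_aux (s := 16) (r := 14) (c := none) (by decide +kernel) u t).trans (mul_one _)

theorem sw_14_16' (u t : K) (z : GL Data.D4.tbl.I K) : xx 14 u * (xx 16 t * z) = xx 16 t * (xx 14 u * z) := by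
  rw [← mul_assoc, sw_14_16, mul_assoc]

theorem sw_15_16 (u t : K) : xx 15 u * xx 16 t = xx 16 t * xx 15 u :=
  (sw_aux (s := 16) (r := 15) (c := none) (by decide +kernel) u t).trans (mul_one _)

theorem sw_15_16' (u t : K) (z : GL Data.D4.tbl.I K) : xx 15 u * (xx 16 t * z) = xx 16 t * (xx 15 u * z) := by
  rw [← mul_assoc, sw_15_16, mul_assoc]

theorem sw_17_16 (u t : K) : xx 17 u * xx 16 t = xx 16 t * xx 17 u :=
  (sw_aux (s := 16) (r := 17) (c := none) (by decide +kernel) u t).trans (mul_one _)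

theorem sw_17_16' (u t : K) (z : GL Data.D4.tbl.I K) : xx 17 u * (xx 16 t * z) = xx 16 t * (xx 17 u * z) := by
  rw [← mul_assoc, sw_17_16, mul_assoc]

theorem sw_18_16 (u t : K) : xx 18 u * xx 16 t = xx 16 t * (xx 18 u * xx 21 (t * u)) :=
  (sw_aux (s := 16) (r := 18) (c := some 21) (by decide +kernel) u t).trans (mul_assoc _ _ _)

theorem sw_18_16' (u t : K) (z : GL Data.D4.tbl.I K) :
    xx 18 u * (xx 16 t * z) = xx 16 t * (xx 18 u * (xx 21 (t * u) * z)) := by
  rw [← mul_assoc, sw_18_16, mul_assoc, mul_assoc]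

theorem sw_19_16 (u t : K) : xx 19 u * xx 16 t = xx 16 t * xx 19 u :=
  (sw_aux (s := 16) (r := 19) (c := none) (by decide +kernel) u t).trans (mul_one _)

theorem sw_19_16' (u t : K) (z : GL Data.D4.tbl.I K) : xx 19 u * (xx 16 t * z) = xx 16 t * (xx 19 u * z) := by
  rw [← mul_assoc, sw_19_16, mul_assoc]

theorem sw_20_16 (u t : K) : xx 20 u * xx 16 t = xx 16 t * (xx 20 u * xx 23 (t * u)) :=
  (sw_aux (s := 16) (r := 20) (c := some 23) (by decide +kernel) u t).trans (mul_assoc _ _ _)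

theorem sw_20_16' (u t : K) (z : GL Data.D4.tbl.I K) :
    xx 20 u * (xx 16 t * z) = xx 16 t * (xx 20 u * (xx 23 (t * u) * z)) := by
  rw [← mul_assoc, sw_20_16, mul_assoc, mul_assoc]

theorem sw_21_16 (u t : K) : xx 21 u * xx 16 t = xx 16 t * xx 21 u :=
  (sw_aux (s := 16) (r := 21) (c := none) (by decide +kernel) u t).trans (mul_one _)

theorem sw_21_16' (u t : K) (z : GL Data.D4.tbl.I K) : xx 21 u * (xx 16 t * z) = xx 16 t * (xx 21 u * z) := by
  rw [← mul_assoc, sw_21_16, mul_assoc]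

theorem sw_22_16 (u t : K) : xx 22 u * xx 16 t = xx 16 t * xx 22 u :=
  (sw_aux (s := 16) (r := 22) (c := none) (by decide +kernel) u t).trans (mul_one _)

theorem sw_22_16' (u t : K) (z : GL Data.D4.tbl.I K) : xx 22 u * (xx 16 t * z) = xx 16 t * (xx 22 u * z) := by
  rw [← mul_assoc, sw_22_16, mul_assoc]

theorem sw_23_16 (u t : K) : xx 23 u * xx 16 t = xx 16 t * xx 23 u :=
  (sw_aux (s := 16) (r := 23) (c := none) (by decide +kernel) u t).trans (mul_one _)

theorem sw_23_16' (u t : K) (z : GL Data.D4.tbl.I K) : xx 23 u * (xx 16 t * z) = xx 16 t * (xx 23 u * z) := by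
  rw [← mul_assoc, sw_23_16, mul_assoc]

theorem sw_12_17 (u t : K) : xx 12 u * xx 17 t = xx 17 t * xx 12 u :=
  (sw_aux (s := 17) (r := 12) (c := none) (by decide +kernel) u t).trans (mul_one _)

theorem sw_12_17' (u t : K) (z : GL Data.D4.tbl.I K) : xx 12 u * (xx 17 t * z) = xx 17 t * (xx 12 u * z) := by
  rw [← mul_assoc, sw_12_17, mul_assoc]

theorem sw_13_17 (u t : K) : xx 13 u * xx 17 t = xx 17 t * xx 13 u :=
  (sw_aux (s := 17) (r := 13) (c := none) (by decide +kernel) u t).trans (mul_one _)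

theorem sw_13_17' (u t : K) (z : GL Data.D4.tbl.I K) : xx 13 u * (xx 17 t * z) = xx 17 t * (xx 13 u * z) := by
  rw [← mul_assoc, sw_13_17, mul_assoc]

theorem sw_14_17 (u t : K) : xx 14 u * xx 17 t = xx 17 t * xx 14 u :=
  (sw_aux (s := 17) (r := 14) (c := none) (by decide +kernel) u t).trans (mul_one _)

theorem sw_14_17' (u t : K) (z : GL Data.D4.tbl.I K) : xx 14 u * (xx 17 t * z) = xx 17 t * (xx 14 u * z) := by
  rw [← mul_assoc, sw_14_17, mul_assoc]

theorem sw_15_17 (u t : K) : xx 15 u * xx 17 t = xx 17 t * xx 15 u :=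
  (sw_aux (s := 17) (r := 15) (c := none) (by decide +kernel) u t).trans (mul_one _)

theorem sw_15_17' (u t : K) (z : GL Data.D4.tbl.I K) : xx 15 u * (xx 17 t * z) = xx 17 t * (xx 15 u * z) := by
  rw [← mul_assoc, sw_15_17, mul_assoc]

theorem sw_16_17 (u t : K) : xx 16 u * xx 17 t = xx 17 t * xx 16 u :=
  (sw_aux (s := 17) (r := 16) (c := none) (by decide +kernel) u t).trans (mul_one _)

theorem sw_16_17' (u t : K) (z : GL Data.D4.tbl.I K) : xx 16 u * (xx 17 t * z) = xx 17 t * (xx 16 u * z) := by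
  rw [← mul_assoc, sw_16_17, mul_assoc]

theorem sw_18_17 (u t : K) : xx 18 u * xx 17 t = xx 17 t * (xx 18 u * xx 22 (t * u)) :=
  (sw_aux (s := 17) (r := 18) (c := some 22) (by decide +kernel) u t).trans (mul_assoc _ _ _)

theorem sw_18_17' (u t : K) (z : GL Data.D4.tbl.I K) :
    xx 18 u * (xx 17 t * z) = xx 17 t * (xx 18 u * (xx 22 (t * u) * z)) := by
  rw [← mul_assoc, sw_18_17, mul_assoc, mul_assoc]

theorem sw_19_17 (u t : K) : xx 19 u * xx 17 t = xx 17 t * (xx 19 u * xx 23 (t * u)) :=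
  (sw_aux (s := 17) (r := 19) (c := some 23) (by decide +kernel) u t).trans (mul_assoc _ _ _)

theorem sw_19_17' (u t : K) (z : GL Data.D4.tbl.I K) :
    xx 19 u * (xx 17 t * z) = xx 17 t * (xx 19 u * (xx 23 (t * u) * z)) := by
  rw [← mul_assoc, sw_19_17, mul_assoc, mul_assoc]

theorem sw_20_17 (u t : K) : xx 20 u * xx 17 t = xx 17 t * xx 20 u :=
  (sw_aux (s := 17) (r := 20) (c := none) (by decide +kernel) u t).trans (mul_one _)

theorem sw_20_17' (u t : K) (z : GL Data.D4.tbl.I K) : xx 20 u * (xx 17 t * z) = xx 17 t * (xx 20 u * z) := by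
  rw [← mul_assoc, sw_20_17, mul_assoc]

theorem sw_21_17 (u t : K) : xx 21 u * xx 17 t = xx 17 t * xx 21 u :=
  (sw_aux (s := 17) (r := 21) (c := none) (by decide +kernel) u t).trans (mul_one _)

theorem sw_21_17' (u t : K) (z : GL Data.D4.tbl.I K) : xx 21 u * (xx 17 t * z) = xx 17 t * (xx 21 u * z) := by
  rw [← mul_assoc, sw_21_17, mul_assoc]

theorem sw_22_17 (u t : K) : xx 22 u * xx 17 t = xx 17 t * xx 22 u :=
  (sw_aux (s := 17) (r := 22) (c := none) (by decide +kernel) u t).trans (mul_one _)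

theorem sw_22_17' (u t : K) (z : GL Data.D4.tbl.I K) : xx 22 u * (xx 17 t * z) = xx 17 t * (xx 22 u * z) := by
  rw [← mul_assoc, sw_22_17, mul_assoc]

theorem sw_23_17 (u t : K) : xx 23 u * xx 17 t = xx 17 t * xx 23 u :=
  (sw_aux (s := 17) (r := 23) (c := none) (by decide +kernel) u t).trans (mul_one _)

theorem sw_23_17' (u t : K) (z : GL Data.D4.tbl.I K) : xx 23 u * (xx 17 t * z) = xx 17 t * (xx 23 u * z) := by
  rw [← mul_assoc, sw_23_17, mul_assoc]

theorem sw_12_18 (u t : K) : xx 12 u * xx 18 t = xx 18 t * xx 12 u :=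
  (sw_aux (s := 18) (r := 12) (c := none) (by decide +kernel) u t).trans (mul_one _)

theorem sw_12_18' (u t : K) (z : GL Data.D4.tbl.I K) : xx 12 u * (xx 18 t * z) = xx 18 t * (xx 12 u * z) := by
  rw [← mul_assoc, sw_12_18, mul_assoc]

theorem sw_13_18 (u t : K) : xx 13 u * xx 18 t = xx 18 t * xx 13 u :=
  (sw_aux (s := 18) (r := 13) (c := none) (by decide +kernel) u t).trans (mul_one _)

theorem sw_13_18' (u t : K) (z : GL Data.D4.tbl.I K) : xx 13 u * (xx 18 t * z) = xx 18 t * (xx 13 u * z) := by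
  rw [← mul_assoc, sw_13_18, mul_assoc]

theorem sw_14_18 (u t : K) : xx 14 u * xx 18 t = xx 18 t * (xx 14 u * xx 19 (t * u)) :=
  (sw_aux (s := 18) (r := 14) (c := some 19) (by decide +kernel) u t).trans (mul_assoc _ _ _)

theorem sw_14_18' (u t : K) (z : GL Data.D4.tbl.I K) :
    xx 14 u * (xx 18 t * z) = xx 18 t * (xx 14 u * (xx 19 (t * u) * z)) := by
  rw [← mul_assoc, sw_14_18, mul_assoc, mul_assoc]

theorem sw_15_18 (u t : K) : xx 15 u * xx 18 t = xx 18 t * (xx 15 u * xx 20 (t * u)) :=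
  (sw_aux (s := 18) (r := 15) (c := some 20) (by decide +kernel) u t).trans (mul_assoc _ _ _)

theorem sw_15_18' (u t : K) (z : GL Data.D4.tbl.I K) :
    xx 15 u * (xx 18 t * z) = xx 18 t * (xx 15 u * (xx 20 (t * u) * z)) := by
  rw [← mul_assoc, sw_15_18, mul_assoc, mul_assoc]

theorem sw_16_18 (u t : K) : xx 16 u * xx 18 t = xx 18 t * (xx 16 u * xx 21 (t * u)) :=
  (sw_aux (s := 18) (r := 16) (c := some 21) (by decide +kernel) u t).trans (mul_assoc _ _ _)

theorem sw_16_18' (u t : K) (z : GL Data.D4.tbl.I K) :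
    xx 16 u * (xx 18 t * z) = xx 18 t * (xx 16 u * (xx 21 (t * u) * z)) := by
  rw [← mul_assoc, sw_16_18, mul_assoc, mul_assoc]

theorem sw_17_18 (u t : K) : xx 17 u * xx 18 t = xx 18 t * (xx 17 u * xx 22 (t * u)) :=
  (sw_aux (s := 18) (r := 17) (c := some 22) (by decide +kernel) u t).trans (mul_assoc _ _ _)

theorem sw_17_18' (u t : K) (z : GL Data.D4.tbl.I K) :
    xx 17 u * (xx 18 t * z) = xx 18 t * (xx 17 u * (xx 22 (t * u) * z)) := by
  rw [← mul_assoc, sw_17_18, mul_assoc, mul_assoc]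

theorem sw_19_18 (u t : K) : xx 19 u * xx 18 t = xx 18 t * xx 19 u :=
  (sw_aux (s := 18) (r := 19) (c := none) (by decide +kernel) u t).trans (mul_one _)

theorem sw_19_18' (u t : K) (z : GL Data.D4.tbl.I K) : xx 19 u * (xx 18 t * z) = xx 18 t * (xx 19 u * z) := by
  rw [← mul_assoc, sw_19_18, mul_assoc]

theorem sw_20_18 (u t : K) : xx 20 u * xx 18 t = xx 18 t * xx 20 u :=
  (sw_aux (s := 18) (r := 20) (c := none) (by decide +kernel) u t).trans (mul_one _)

theorem sw_20_18' (u t : K) (z : GL Data.D4.tbl.I K) : xx 20 u * (xx 18 t * z) = xx 18 t * (xx 20 u * z) := by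
  rw [← mul_assoc, sw_20_18, mul_assoc]

theorem sw_21_18 (u t : K) : xx 21 u * xx 18 t = xx 18 t * xx 21 u :=
  (sw_aux (s := 18) (r := 21) (c := none) (by decide +kernel) u t).trans (mul_one _)

theorem sw_21_18' (u t : K) (z : GL Data.D4.tbl.I K) : xx 21 u * (xx 18 t * z) = xx 18 t * (xx 21 u * z) := by
  rw [← mul_assoc, sw_21_18, mul_assoc]

theorem sw_22_18 (u t : K) : xx 22 u * xx 18 t = xx 18 t * xx 22 u :=
  (sw_aux (s := 18) (r := 22) (c := none) (by decide +kernel) u t).trans (mul_one _)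

theorem sw_22_18' (u t : K) (z : GL Data.D4.tbl.I K) : xx 22 u * (xx 18 t * z) = xx 18 t * (xx 22 u * z) := by
  rw [← mul_assoc, sw_22_18, mul_assoc]

theorem sw_23_18 (u t : K) : xx 23 u * xx 18 t = xx 18 t * xx 23 u :=
  (sw_aux (s := 18) (r := 23) (c := none) (by decide +kernel) u t).trans (mul_one _)

theorem sw_23_18' (u t : K) (z : GL Data.D4.tbl.I K) : xx 23 u * (xx 18 t * z) = xx 18 t * (xx 23 u * z) := by
  rw [← mul_assoc, sw_23_18, mul_assoc]

theorem sw_12_19 (u t : K) : xx 12 u * xx 19 t = xx 19 t * (xx 12 u * xx 20 (t * u)) :=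
  (sw_aux (s := 19) (r := 12) (c := some 20) (by decide +kernel) u t).trans (mul_assoc _ _ _)

theorem sw_12_19' (u t : K) (z : GL Data.D4.tbl.I K) :
    xx 12 u * (xx 19 t * z) = xx 19 t * (xx 12 u * (xx 20 (t * u) * z)) := by
  rw [← mul_assoc, sw_12_19, mul_assoc, mul_assoc]

theorem sw_13_19 (u t : K) : xx 13 u * xx 19 t = xx 19 t * (xx 13 u * xx 21 (t * u)) :=
  (sw_aux (s := 19) (r := 13) (c := some 21) (by decide +kernel) u t).trans (mul_assoc _ _ _)

theorem sw_13_19' (u t : K) (z : GL Data.D4.tbl.I K) :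
    xx 13 u * (xx 19 t * z) = xx 19 t * (xx 13 u * (xx 21 (t * u) * z)) := by
  rw [← mul_assoc, sw_13_19, mul_assoc, mul_assoc]

theorem sw_14_19 (u t : K) : xx 14 u * xx 19 t = xx 19 t * xx 14 u :=
  (sw_aux (s := 19) (r := 14) (c := none) (by decide +kernel) u t).trans (mul_one _)

theorem sw_14_19' (u t : K) (z : GL Data.D4.tbl.I K) : xx 14 u * (xx 19 t * z) = xx 19 t * (xx 14 u * z) := by
  rw [← mul_assoc, sw_14_19, mul_assoc]

theorem sw_15_19 (u t : K) : xx 15 u * xx 19 t = xx 19 t * xx 15 u :=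
  (sw_aux (s := 19) (r := 15) (c := none) (by decide +kernel) u t).trans (mul_one _)

theorem sw_15_19' (u t : K) (z : GL Data.D4.tbl.I K) : xx 15 u * (xx 19 t * z) = xx 19 t * (xx 15 u * z) := by
  rw [← mul_assoc, sw_15_19, mul_assoc]

theorem sw_16_19 (u t : K) : xx 16 u * xx 19 t = xx 19 t * xx 16 u :=
  (sw_aux (s := 19) (r := 16) (c := none) (by decide +kernel) u t).trans (mul_one _)

theorem sw_16_19' (u t : K) (z : GL Data.D4.tbl.I K) : xx 16 u * (xx 19 t * z) = xx 19 t * (xx 16 u * z) := by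
  rw [← mul_assoc, sw_16_19, mul_assoc]

theorem sw_17_19 (u t : K) : xx 17 u * xx 19 t = xx 19 t * (xx 17 u * xx 23 (t * u)) :=
  (sw_aux (s := 19) (r := 17) (c := some 23) (by decide +kernel) u t).trans (mul_assoc _ _ _)

theorem sw_17_19' (u t : K) (z : GL Data.D4.tbl.I K) :
    xx 17 u * (xx 19 t * z) = xx 19 t * (xx 17 u * (xx 23 (t * u) * z)) := by
  rw [← mul_assoc, sw_17_19, mul_assoc, mul_assoc]

theorem sw_18_19 (u t : K) : xx 18 u * xx 19 t = xx 19 t * xx 18 u :=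
  (sw_aux (s := 19) (r := 18) (c := none) (by decide +kernel) u t).trans (mul_one _)

theorem sw_18_19' (u t : K) (z : GL Data.D4.tbl.I K) : xx 18 u * (xx 19 t * z) = xx 19 t * (xx 18 u * z) := by
  rw [← mul_assoc, sw_18_19, mul_assoc]

theorem sw_20_19 (u t : K) : xx 20 u * xx 19 t = xx 19 t * xx 20 u :=
  (sw_aux (s := 19) (r := 20) (c := none) (by decide +kernel) u t).trans (mul_one _)

theorem sw_20_19' (u t : K) (z : GL Data.D4.tbl.I K) : xx 20 u * (xx 19 t * z) = xx 19 t * (xx 20 u * z) := by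
  rw [← mul_assoc, sw_20_19, mul_assoc]

theorem sw_21_19 (u t : K) : xx 21 u * xx 19 t = xx 19 t * xx 21 u :=
  (sw_aux (s := 19) (r := 21) (c := none) (by decide +kernel) u t).trans (mul_one _)

theorem sw_21_19' (u t : K) (z : GL Data.D4.tbl.I K) : xx 21 u * (xx 19 t * z) = xx 19 t * (xx 21 u * z) := by
  rw [← mul_assoc, sw_21_19, mul_assoc]

theorem sw_22_19 (u t : K) : xx 22 u * xx 19 t = xx 19 t * xx 22 u :=
  (sw_aux (s := 19) (r := 22) (c := none) (by decide +kernel) u t).trans (mul_one _)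

theorem sw_22_19' (u t : K) (z : GL Data.D4.tbl.I K) : xx 22 u * (xx 19 t * z) = xx 19 t * (xx 22 u * z) := by
  rw [← mul_assoc, sw_22_19, mul_assoc]

theorem sw_23_19 (u t : K) : xx 23 u * xx 19 t = xx 19 t * xx 23 u :=
  (sw_aux (s := 19) (r := 23) (c := none) (by decide +kernel) u t).trans (mul_one _)

theorem sw_23_19' (u t : K) (z : GL Data.D4.tbl.I K) : xx 23 u * (xx 19 t * z) = xx 19 t * (xx 23 u * z) := by
  rw [← mul_assoc, sw_23_19, mul_assoc]

theorem sw_12_20 (u t : K) : xx 12 u * xx 20 t = xx 20 t * xx 12 u :=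
  (sw_aux (s := 20) (r := 12) (c := none) (by decide +kernel) u t).trans (mul_one _)

theorem sw_12_20' (u t : K) (z : GL Data.D4.tbl.I K) : xx 12 u * (xx 20 t * z) = xx 20 t * (xx 12 u * z) := by
  rw [← mul_assoc, sw_12_20, mul_assoc]

theorem sw_13_20 (u t : K) : xx 13 u * xx 20 t = xx 20 t * (xx 13 u * xx 22 (t * u)) :=
  (sw_aux (s := 20) (r := 13) (c := some 22) (by decide +kernel) u t).trans (mul_assoc _ _ _)

theorem sw_13_20' (u t : K) (z : GL Data.D4.tbl.I K) :
    xx 13 u * (xx 20 t * z) = xx 20 t * (xx 13 u * (xx 22 (t * u) * z)) := by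
  rw [← mul_assoc, sw_13_20, mul_assoc, mul_assoc]

theorem sw_14_20 (u t : K) : xx 14 u * xx 20 t = xx 20 t * xx 14 u :=
  (sw_aux (s := 20) (r := 14) (c := none) (by decide +kernel) u t).trans (mul_one _)

theorem sw_14_20' (u t : K) (z : GL Data.D4.tbl.I K) : xx 14 u * (xx 20 t * z) = xx 20 t * (xx 14 u * z) := by
  rw [← mul_assoc, sw_14_20, mul_assoc]

theorem sw_15_20 (u t : K) : xx 15 u * xx 20 t = xx 20 t * xx 15 u :=
  (sw_aux (s := 20) (r := 15) (c := none) (by decide +kernel) u t).trans (mul_one _)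

theorem sw_15_20' (u t : K) (z : GL Data.D4.tbl.I K) : xx 15 u * (xx 20 t * z) = xx 20 t * (xx 15 u * z) := by
  rw [← mul_assoc, sw_15_20, mul_assoc]

theorem sw_16_20 (u t : K) : xx 16 u * xx 20 t = xx 20 t * (xx 16 u * xx 23 (t * u)) :=
  (sw_aux (s := 20) (r := 16) (c := some 23) (by decide +kernel) u t).trans (mul_assoc _ _ _)

theorem sw_16_20' (u t : K) (z : GL Data.D4.tbl.I K) :
    xx 16 u * (xx 20 t * z) = xx 20 t * (xx 16 u * (xx 23 (t * u) * z)) := by
  rw [← mul_assoc, sw_16_20, mul_assoc, mul_assoc]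

theorem sw_17_20 (u t : K) : xx 17 u * xx 20 t = xx 20 t * xx 17 u :=
  (sw_aux (s := 20) (r := 17) (c := none) (by decide +kernel) u t).trans (mul_one _)

theorem sw_17_20' (u t : K) (z : GL Data.D4.tbl.I K) : xx 17 u * (xx 20 t * z) = xx 20 t * (xx 17 u * z) := by
  rw [← mul_assoc, sw_17_20, mul_assoc]

theorem sw_18_20 (u t : K) : xx 18 u * xx 20 t = xx 20 t * xx 18 u :=
  (sw_aux (s := 20) (r := 18) (c := none) (by decide +kernel) u t).trans (mul_one _)

theorem sw_18_20' (u t : K) (z : GL Data.D4.tbl.I K) : xx 18 u * (xx 20 t * z) = xx 20 t * (xx 18 u * z) := by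
  rw [← mul_assoc, sw_18_20, mul_assoc]

theorem sw_19_20 (u t : K) : xx 19 u * xx 20 t = xx 20 t * xx 19 u :=
  (sw_aux (s := 20) (r := 19) (c := none) (by decide +kernel) u t).trans (mul_one _)

theorem sw_19_20' (u t : K) (z : GL Data.D4.tbl.I K) : xx 19 u * (xx 20 t * z) = xx 20 t * (xx 19 u * z) := by
  rw [← mul_assoc, sw_19_20, mul_assoc]

theorem sw_21_20 (u t : K) : xx 21 u * xx 20 t = xx 20 t * xx 21 u :=
  (sw_aux (s := 20) (r := 21) (c := none) (by decide +kernel) u t).trans (mul_one _)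

theorem sw_21_20' (u t : K) (z : GL Data.D4.tbl.I K) : xx 21 u * (xx 20 t * z) = xx 20 t * (xx 21 u * z) := by
  rw [← mul_assoc, sw_21_20, mul_assoc]

theorem sw_22_20 (u t : K) : xx 22 u * xx 20 t = xx 20 t * xx 22 u :=
  (sw_aux (s := 20) (r := 22) (c := none) (by decide +kernel) u t).trans (mul_one _)

theorem sw_22_20' (u t : K) (z : GL Data.D4.tbl.I K) : xx 22 u * (xx 20 t * z) = xx 20 t * (xx 22 u * z) := by
  rw [← mul_assoc, sw_22_20, mul_assoc]

theorem sw_23_20 (u t : K) : xx 23 u * xx 20 t = xx 20 t * xx 23 u :=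
  (sw_aux (s := 20) (r := 23) (c := none) (by decide +kernel) u t).trans (mul_one _)

theorem sw_23_20' (u t : K) (z : GL Data.D4.tbl.I K) : xx 23 u * (xx 20 t * z) = xx 20 t * (xx 23 u * z) := by
  rw [← mul_assoc, sw_23_20, mul_assoc]

theorem sw_12_21 (u t : K) : xx 12 u * xx 21 t = xx 21 t * (xx 12 u * xx 22 (t * u)) :=
  (sw_aux (s := 21) (r := 12) (c := some 22) (by decide +kernel) u t).trans (mul_assoc _ _ _)

theorem sw_12_21' (u t : K) (z : GL Data.D4.tbl.I K) :
    xx 12 u * (xx 21 t * z) = xx 21 t * (xx 12 u * (xx 22 (t * u) * z)) := by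
  rw [← mul_assoc, sw_12_21, mul_assoc, mul_assoc]

theorem sw_13_21 (u t : K) : xx 13 u * xx 21 t = xx 21 t * xx 13 u :=
  (sw_aux (s := 21) (r := 13) (c := none) (by decide +kernel) u t).trans (mul_one _)

theorem sw_13_21' (u t : K) (z : GL Data.D4.tbl.I K) : xx 13 u * (xx 21 t * z) = xx 21 t * (xx 13 u * z) := by
  rw [← mul_assoc, sw_13_21, mul_assoc]

theorem sw_14_21 (u t : K) : xx 14 u * xx 21 t = xx 21 t * xx 14 u :=
  (sw_aux (s := 21) (r := 14) (c := none) (by decide +kernel) u t).trans (mul_one _)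

theorem sw_14_21' (u t : K) (z : GL Data.D4.tbl.I K) : xx 14 u * (xx 21 t * z) = xx 21 t * (xx 14 u * z) := by
  rw [← mul_assoc, sw_14_21, mul_assoc]

theorem sw_15_21 (u t : K) : xx 15 u * xx 21 t = xx 21 t * (xx 15 u * xx 23 (t * u)) :=
  (sw_aux (s := 21) (r := 15) (c := some 23) (by decide +kernel) u t).trans (mul_assoc _ _ _)

theorem sw_15_21' (u t : K) (z : GL Data.D4.tbl.I K) :
    xx 15 u * (xx 21 t * z) = xx 21 t * (xx 15 u * (xx 23 (t * u) * z)) := by
  rw [← mul_assoc, sw_15_21, mul_assoc, mul_assoc]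

theorem sw_16_21 (u t : K) : xx 16 u * xx 21 t = xx 21 t * xx 16 u :=
  (sw_aux (s := 21) (r := 16) (c := none) (by decide +kernel) u t).trans (mul_one _)

theorem sw_16_21' (u t : K) (z : GL Data.D4.tbl.I K) : xx 16 u * (xx 21 t * z) = xx 21 t * (xx 16 u * z) := by
  rw [← mul_assoc, sw_16_21, mul_assoc]

theorem sw_17_21 (u t : K) : xx 17 u * xx 21 t = xx 21 t * xx 17 u :=
  (sw_aux (s := 21) (r := 17) (c := none) (by decide +kernel) u t).trans (mul_one _)

theorem sw_17_21' (u t : K) (z : GL Data.D4.tbl.I K) : xx 17 u * (xx 21 t * z) = xx 21 t * (xx 17 u * z) := by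
  rw [← mul_assoc, sw_17_21, mul_assoc]

theorem sw_18_21 (u t : K) : xx 18 u * xx 21 t = xx 21 t * xx 18 u :=
  (sw_aux (s := 21) (r := 18) (c := none) (by decide +kernel) u t).trans (mul_one _)

theorem sw_18_21' (u t : K) (z : GL Data.D4.tbl.I K) : xx 18 u * (xx 21 t * z) = xx 21 t * (xx 18 u * z) := by
  rw [← mul_assoc, sw_18_21, mul_assoc]

theorem sw_19_21 (u t : K) : xx 19 u * xx 21 t = xx 21 t * xx 19 u :=
  (sw_aux (s := 21) (r := 19) (c := none) (by decide +kernel) u t).trans (mul_one _)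

theorem sw_19_21' (u t : K) (z : GL Data.D4.tbl.I K) : xx 19 u * (xx 21 t * z) = xx 21 t * (xx 19 u * z) := by
  rw [← mul_assoc, sw_19_21, mul_assoc]

theorem sw_20_21 (u t : K) : xx 20 u * xx 21 t = xx 21 t * xx 20 u :=
  (sw_aux (s := 21) (r := 20) (c := none) (by decide +kernel) u t).trans (mul_one _)

theorem sw_20_21' (u t : K) (z : GL Data.D4.tbl.I K) : xx 20 u * (xx 21 t * z) = xx 21 t * (xx 20 u * z) := by
  rw [← mul_assoc, sw_20_21, mul_assoc]

theorem sw_22_21 (u t : K) : xx 22 u * xx 21 t = xx 21 t * xx 22 u :=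
  (sw_aux (s := 21) (r := 22) (c := none) (by decide +kernel) u t).trans (mul_one _)

theorem sw_22_21' (u t : K) (z : GL Data.D4.tbl.I K) : xx 22 u * (xx 21 t * z) = xx 21 t * (xx 22 u * z) := by
  rw [← mul_assoc, sw_22_21, mul_assoc]

theorem sw_23_21 (u t : K) : xx 23 u * xx 21 t = xx 21 t * xx 23 u :=
  (sw_aux (s := 21) (r := 23) (c := none) (by decide +kernel) u t).trans (mul_one _)

theorem sw_23_21' (u t : K) (z : GL Data.D4.tbl.I K) : xx 23 u * (xx 21 t * z) = xx 21 t * (xx 23 u * z) := by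
  rw [← mul_assoc, sw_23_21, mul_assoc]

theorem sw_12_22 (u t : K) : xx 12 u * xx 22 t = xx 22 t * xx 12 u :=
  (sw_aux (s := 22) (r := 12) (c := none) (by decide +kernel) u t).trans (mul_one _)

theorem sw_12_22' (u t : K) (z : GL Data.D4.tbl.I K) : xx 12 u * (xx 22 t * z) = xx 22 t * (xx 12 u * z) := by
  rw [← mul_assoc, sw_12_22, mul_assoc]

theorem sw_13_22 (u t : K) : xx 13 u * xx 22 t = xx 22 t * xx 13 u :=
  (sw_aux (s := 22) (r := 13) (c := none) (by decide +kernel) u t).trans (mul_one _)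

theorem sw_13_22' (u t : K) (z : GL Data.D4.tbl.I K) : xx 13 u * (xx 22 t * z) = xx 22 t * (xx 13 u * z) := by
  rw [← mul_assoc, sw_13_22, mul_assoc]

theorem sw_14_22 (u t : K) : xx 14 u * xx 22 t = xx 22 t * (xx 14 u * xx 23 (t * u)) :=
  (sw_aux (s := 22) (r := 14) (c := some 23) (by decide +kernel) u t).trans (mul_assoc _ _ _)

theorem sw_14_22' (u t : K) (z : GL Data.D4.tbl.I K) :
    xx 14 u * (xx 22 t * z) = xx 22 t * (xx 14 u * (xx 23 (t * u) * z)) := by
  rw [← mul_assoc, sw_14_22, mul_assoc, mul_assoc]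

theorem sw_15_22 (u t : K) : xx 15 u * xx 22 t = xx 22 t * xx 15 u :=
  (sw_aux (s := 22) (r := 15) (c := none) (by decide +kernel) u t).trans (mul_one _)

theorem sw_15_22' (u t : K) (z : GL Data.D4.tbl.I K) : xx 15 u * (xx 22 t * z) = xx 22 t * (xx 15 u * z) := by
  rw [← mul_assoc, sw_15_22, mul_assoc]

theorem sw_16_22 (u t : K) : xx 16 u * xx 22 t = xx 22 t * xx 16 u :=
  (sw_aux (s := 22) (r := 16) (c := none) (by decide +kernel) u t).trans (mul_one _)

theorem sw_16_22' (u t : K) (z : GL Data.D4.tbl.I K) : xx 16 u * (xx 22 t * z) = xx 22 t * (xx 16 u * z) := by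
  rw [← mul_assoc, sw_16_22, mul_assoc]

theorem sw_17_22 (u t : K) : xx 17 u * xx 22 t = xx 22 t * xx 17 u :=
  (sw_aux (s := 22) (r := 17) (c := none) (by decide +kernel) u t).trans (mul_one _)

theorem sw_17_22' (u t : K) (z : GL Data.D4.tbl.I K) : xx 17 u * (xx 22 t * z) = xx 22 t * (xx 17 u * z) := by
  rw [← mul_assoc, sw_17_22, mul_assoc]

theorem sw_18_22 (u t : K) : xx 18 u * xx 22 t = xx 22 t * xx 18 u :=
  (sw_aux (s := 22) (r := 18) (c := none) (by decide +kernel) u t).trans (mul_one _)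

theorem sw_18_22' (u t : K) (z : GL Data.D4.tbl.I K) : xx 18 u * (xx 22 t * z) = xx 22 t * (xx 18 u * z) := by
  rw [← mul_assoc, sw_18_22, mul_assoc]

theorem sw_19_22 (u t : K) : xx 19 u * xx 22 t = xx 22 t * xx 19 u :=
  (sw_aux (s := 22) (r := 19) (c := none) (by decide +kernel) u t).trans (mul_one _)

theorem sw_19_22' (u t : K) (z : GL Data.D4.tbl.I K) : xx 19 u * (xx 22 t * z) = xx 22 t * (xx 19 u * z) := by
  rw [← mul_assoc, sw_19_22, mul_assoc]

theorem sw_20_22 (u t : K) : xx 20 u * xx 22 t = xx 22 t * xx 20 u :=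
  (sw_aux (s := 22) (r := 20) (c := none) (by decide +kernel) u t).trans (mul_one _)

theorem sw_20_22' (u t : K) (z : GL Data.D4.tbl.I K) : xx 20 u * (xx 22 t * z) = xx 22 t * (xx 20 u * z) := by
  rw [← mul_assoc, sw_20_22, mul_assoc]

theorem sw_21_22 (u t : K) : xx 21 u * xx 22 t = xx 22 t * xx 21 u :=
  (sw_aux (s := 22) (r := 21) (c := none) (by decide +kernel) u t).trans (mul_one _)

theorem sw_21_22' (u t : K) (z : GL Data.D4.tbl.I K) : xx 21 u * (xx 22 t * z) = xx 22 t * (xx 21 u * z) := by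
  rw [← mul_assoc, sw_21_22, mul_assoc]

theorem sw_23_22 (u t : K) : xx 23 u * xx 22 t = xx 22 t * xx 23 u :=
  (sw_aux (s := 22) (r := 23) (c := none) (by decide +kernel) u t).trans (mul_one _)

theorem sw_23_22' (u t : K) (z : GL Data.D4.tbl.I K) : xx 23 u * (xx 22 t * z) = xx 22 t * (xx 23 u * z) := by
  rw [← mul_assoc, sw_23_22, mul_assoc]

theorem sw_12_23 (u t : K) : xx 12 u * xx 23 t = xx 23 t * xx 12 u :=
  (sw_aux (s := 23) (r := 12) (c := none) (by decide +kernel) u t).trans (mul_one _)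

theorem sw_12_23' (u t : K) (z : GL Data.D4.tbl.I K) : xx 12 u * (xx 23 t * z) = xx 23 t * (xx 12 u * z) := by
  rw [← mul_assoc, sw_12_23, mul_assoc]

theorem sw_13_23 (u t : K) : xx 13 u * xx 23 t = xx 23 t * xx 13 u :=
  (sw_aux (s := 23) (r := 13) (c := none) (by decide +kernel) u t).trans (mul_one _)

theorem sw_13_23' (u t : K) (z : GL Data.D4.tbl.I K) : xx 13 u * (xx 23 t * z) = xx 23 t * (xx 13 u * z) := by
  rw [← mul_assoc, sw_13_23, mul_assoc]

theorem sw_14_23 (u t : K) : xx 14 u * xx 23 t = xx 23 t * xx 14 u :=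
  (sw_aux (s := 23) (r := 14) (c := none) (by decide +kernel) u t).trans (mul_one _)

theorem sw_14_23' (u t : K) (z : GL Data.D4.tbl.I K) : xx 14 u * (xx 23 t * z) = xx 23 t * (xx 14 u * z) := by
  rw [← mul_assoc, sw_14_23, mul_assoc]

theorem sw_15_23 (u t : K) : xx 15 u * xx 23 t = xx 23 t * xx 15 u :=
  (sw_aux (s := 23) (r := 15) (c := none) (by decide +kernel) u t).trans (mul_one _)

theorem sw_15_23' (u t : K) (z : GL Data.D4.tbl.I K) : xx 15 u * (xx 23 t * z) = xx 23 t * (xx 15 u * z) := by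
  rw [← mul_assoc, sw_15_23, mul_assoc]

theorem sw_16_23 (u t : K) : xx 16 u * xx 23 t = xx 23 t * xx 16 u :=
  (sw_aux (s := 23) (r := 16) (c := none) (by decide +kernel) u t).trans (mul_one _)

theorem sw_16_23' (u t : K) (z : GL Data.D4.tbl.I K) : xx 16 u * (xx 23 t * z) = xx 23 t * (xx 16 u * z) := by
  rw [← mul_assoc, sw_16_23, mul_assoc]

theorem sw_17_23 (u t : K) : xx 17 u * xx 23 t = xx 23 t * xx 17 u :=
  (sw_aux (s := 23) (r := 17) (c := none) (by decide +kernel) u t).trans (mul_one _)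

theorem sw_17_23' (u t : K) (z : GL Data.D4.tbl.I K) : xx 17 u * (xx 23 t * z) = xx 23 t * (xx 17 u * z) := by
  rw [← mul_assoc, sw_17_23, mul_assoc]

theorem sw_18_23 (u t : K) : xx 18 u * xx 23 t = xx 23 t * xx 18 u :=
  (sw_aux (s := 23) (r := 18) (c := none) (by decide +kernel) u t).trans (mul_one _)

theorem sw_18_23' (u t : K) (z : GL Data.D4.tbl.I K) : xx 18 u * (xx 23 t * z) = xx 23 t * (xx 18 u * z) := by
  rw [← mul_assoc, sw_18_23, mul_assoc]

theorem sw_19_23 (u t : K) : xx 19 u * xx 23 t = xx 23 t * xx 19 u :=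
  (sw_aux (s := 23) (r := 19) (c := none) (by decide +kernel) u t).trans (mul_one _)

theorem sw_19_23' (u t : K) (z : GL Data.D4.tbl.I K) : xx 19 u * (xx 23 t * z) = xx 23 t * (xx 19 u * z) := by
  rw [← mul_assoc, sw_19_23, mul_assoc]

theorem sw_20_23 (u t : K) : xx 20 u * xx 23 t = xx 23 t * xx 20 u :=
  (sw_aux (s := 23) (r := 20) (c := none) (by decide +kernel) u t).trans (mul_one _)

theorem sw_20_23' (u t : K) (z : GL Data.D4.tbl.I K) : xx 20 u * (xx 23 t * z) = xx 23 t * (xx 20 u * z) := by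
  rw [← mul_assoc, sw_20_23, mul_assoc]

theorem sw_21_23 (u t : K) : xx 21 u * xx 23 t = xx 23 t * xx 21 u :=
  (sw_aux (s := 23) (r := 21) (c := none) (by decide +kernel) u t).trans (mul_one _)

theorem sw_21_23' (u t : K) (z : GL Data.D4.tbl.I K) : xx 21 u * (xx 23 t * z) = xx 23 t * (xx 21 u * z) := by
  rw [← mul_assoc, sw_21_23, mul_assoc]

theorem sw_22_23 (u t : K) : xx 22 u * xx 23 t = xx 23 t * xx 22 u :=
  (sw_aux (s := 23) (r := 22) (c := none) (by decide +kernel) u t).trans (mul_one _)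

theorem sw_22_23' (u t : K) (z : GL Data.D4.tbl.I K) : xx 22 u * (xx 23 t * z) = xx 23 t * (xx 22 u * z) := by
  rw [← mul_assoc, sw_22_23, mul_assoc]

end CfsgLib.D4Inv
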