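import Cfsg.Agent.Lib.KnownB.D4Inv.Form
import Cfsg.Agent.Lib.Chevalley.Twist.InstD4

/-!
Coordinates of the fixed positive elements of ³D₄ in characteristic two.
-/

set_option autoImplicit false
set_option maxRecDepth 20000
set_option linter.all false
set_option Elab.async false

namespace CfsgLib.D4Inv

open CfsgLib.Chevalley CfsgLib.Chevalley.Tbl

variable {K : Type*} [Field K] [CharP K 2] [Finite K] {q : ℕ} (hq : IsPrimePow q) (hK : Nat.card K = q ^ 3)

local notation "xx" => Data.D4.tbl.xU K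
local notation "σ" => Twist.D4.fq hq hK
local notation "SS" => AbSetup.S (Twist.D4.setup hq hK)

theorem graph_facts : ∀ r < 24,
    (Data.D4.graph.ε r = 1 ∨ Data.D4.graph.ε r = -1) ∧ Data.D4.graph.lam r = 1 := by decide +kernel

omit [CharP K 2] in
include hq hK in
theorem h3 (x : K) : σ (σ (σ x)) = x := by
  rw [Twist.D4.fq_apply, Twist.D4.fq_apply, Twist.D4.fq_apply, ← pow_mul, ← pow_mul,
    show q * (q * q) = q ^ 3 by ring]
  exact Twist.D4.pow_cube hK x

theorem sg_x {r : ℕ} (hr : r < 24) (t : K) :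
    (SS).sg (xx r t) = xx (Data.D4.graph.ρ r) (σ t) := by
  refine ((Twist.D4.setup hq hK).D.sg_x (lt24 hr) t).trans ?_
  show xx (Data.D4.graph.ρ r) (Data.D4.graph.par r (σ t)) = _
  obtain ⟨he, hl⟩ := graph_facts r hr
  rw [RootMap.par, hl, pow_one]
  rcases he with he | he <;> simp [he, CharTwo.neg_eq]

/-- The list of the positive roots in orbit order. -/
def ord : List ℕ := [18, 13, 12, 14, 19, 16, 15, 21, 17, 20, 22, 23]

omit [CharP K 2] [Finite K] in
theorem nf_gprod (v : ℕ → K) : nf v = Data.D4.tbl.gprod (ord.map fun r => (r, v r)) := by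
  simp only [nf, ord, gprod, List.map_cons, List.map_nil, List.prod_cons, List.prod_nil, mul_one]

omit [CharP K 2] [Finite K] in
theorem ord_mem {r : ℕ} (h : r ∈ ord) : r < 24 ∧ Data.D4.tbl.half ≤ r := by
  rw [show Data.D4.tbl.half = 12 by decide +kernel]
  revert r
  decide

omit [CharP K 2] [Finite K] in
theorem nf_pos (v : ℕ → K) : nf v ∈ Data.D4.tbl.rootGen K (fun r => Data.D4.tbl.half ≤ r) := by
  rw [nf_gprod]
  refine gprod_mem fun p hp => ?_
  obtain ⟨r, hr, rfl⟩ := List.mem_map.mp hp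
  exact ⟨lt24 (ord_mem hr).1, (ord_mem hr).2⟩

omit [CharP K 2] [Finite K] in
theorem nf_group (v : ℕ → K) : nf v ∈ Data.D4.tbl.datum.group K := by
  rw [nf_gprod]
  refine gprod_mem_group Data.D4.valid fun p hp => ?_
  obtain ⟨r, hr, rfl⟩ := List.mem_map.mp hp
  exact lt24 (ord_mem hr).1

theorem sg_nf (v : ℕ → K) : (SS).sg (nf v) = nf (fun r => if r = 18 then σ (v 12)
    else if r = 13 then σ (v 18) else if r = 12 then σ (v 13) else if r = 14 then σ (v 14)
    else if r = 19 then σ (v 15) else if r = 16 then σ (v 19) else if r = 15 then σ (v 16)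
    else if r = 21 then σ (v 20) else if r = 17 then σ (v 21) else if r = 20 then σ (v 17)
    else if r = 22 then σ (v 22) else if r = 23 then σ (v 23) else 0) := by
  rw [nf_gprod v, sg_gprod (SS) (fun p hp => by
    obtain ⟨r, hr, rfl⟩ := List.mem_map.mp hp
    exact lt24 (ord_mem hr).1) (fun p => (Data.D4.graph.ρ p.1, σ p.2)) (fun p hp => by
    obtain ⟨r, hr, rfl⟩ := List.mem_map.mp hp
    exact sg_x hq hK (ord_mem hr).1 _)]
  refine Eq.trans ?_ (perm_collect fun r => σ (v r))
  rw [List.map_map]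
  simp only [ord, gprod, List.map_cons, List.map_nil, List.prod_cons, List.prod_nil, mul_one,
    Function.comp_apply]
  rfl

theorem N_fix {a b c d e g : K} (hb : σ b = b) (he : σ e = e) (hg : σ g = g) :
    N σ a b c d e g ∈ (SS).fix := by
  rw [N_eq_nf]
  refine ⟨nf_group _, ?_⟩
  rw [sg_nf hq hK]
  simp only [reduceIte, Nat.reduceEqDiff, h3 hq hK, hb, he, hg]

omit [CharP K 2] in
theorem N_pos (a b c d e g : K) :
    N σ a b c d e g ∈ Data.D4.tbl.rootGen K (fun r => Data.D4.tbl.half ≤ r) := by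
  rw [N_eq_nf]
  exact nf_pos _

theorem exists_coords {x : GL Data.D4.tbl.I K}
    (hx : x ∈ Data.D4.tbl.rootGen K (fun r => Data.D4.tbl.half ≤ r)) (hf : x ∈ (SS).fix) :
    ∃ a b c d e g, σ b = b ∧ σ e = e ∧ σ g = g ∧ x = N σ a b c d e g := by
  have hh : Data.D4.tbl.half = 12 := by decide +kernel
  obtain ⟨f, hf'⟩ := exists_gprod Data.D4.valid Data.D4.chkComm (P := fun _ => True)
    (fun _ _ _ _ _ _ _ _ _ _ => trivial) 12 12 (by decide +kernel) hh.le x
    (rootGen_mono (fun r _ h => ⟨trivial, hh ▸ h⟩) hx)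
  rw [show ((List.range' 12 12).filter fun _ => decide True) =
    [12, 13, 14, 15, 16, 17, 18, 19, 20, 21, 22, 23] by decide] at hf'
  obtain ⟨v, hv⟩ := exists_nf f
  rw [hv] at hf'
  subst hf'
  have key := nf_inj ((sg_nf hq hK v).symm.trans hf.2)
  have k : ∀ r ∈ ord, _ = v r := key
  have e13 := k 13 (by decide)
  have e12 := k 12 (by decide)
  have e14 := k 14 (by decide)
  have e16 := k 16 (by decide)
  have e15 := k 15 (by decide)
  have e17 := k 17 (by decide)
  have e20 := k 20 (by decide)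
  have e22 := k 22 (by decide)
  have e23 := k 23 (by decide)
  simp only [reduceIte, Nat.reduceEqDiff] at e13 e12 e14 e16 e15 e17 e20 e22 e23
  refine ⟨v 18, v 14, v 19, v 21, v 22, v 23, e14, e22, e23, ?_⟩
  simp only [N, nf]
  rw [e13, e12, e16, e15, e17, e20]

theorem N_inj {a b c d e g a' b' c' d' e' g' : K}
    (h : N σ a b c d e g = N σ a' b' c' d' e' g') :
    a = a' ∧ b = b' ∧ c = c' ∧ d = d' ∧ e = e' ∧ g = g' := by
  rw [N_eq_nf, N_eq_nf] at h
  have key := nf_inj h
  refine ⟨?_, ?_, ?_, ?_, ?_, ?_⟩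
  · simpa using key 18 (by simp)
  · simpa using key 14 (by simp)
  · simpa using key 19 (by simp)
  · simpa using key 21 (by simp)
  · simpa using key 22 (by simp)
  · simpa using key 23 (by simp)

omit [CharP K 2] in
theorem N_zero : N σ 0 0 0 0 0 0 = 1 := by
  simp only [N, map_zero, x_zero, Nat.reduceLT, mul_one]

end CfsgLib.D4Inv
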