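import Cfsg.Agent.Lib.KnownB.D4Inv.Collect
import Cfsg.Agent.Lib.Chevalley.Twist.OrbitProd

/-!
Normal forms of the fixed positive elements of ³D₄ in characteristic two.
-/

set_option autoImplicit false
set_option maxRecDepth 20000
set_option maxHeartbeats 1600000
set_option linter.all false
set_option Elab.async false

namespace CfsgLib.D4Inv

open CfsgLib.Chevalley CfsgLib.Chevalley.Tbl

variable {K : Type*} [Field K] [CharP K 2]

local notation "xx" => Data.D4.tbl.xU K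

omit [CharP K 2] in
theorem lt24 {r : ℕ} (h : r < 24) : r < Data.D4.tbl.n := by
  rwa [show Data.D4.tbl.n = 24 by decide +kernel]

omit [CharP K 2] in
theorem x_add {r : ℕ} (h : r < 24) (u v : K) : xx r u * xx r v = xx r (u + v) :=
  xU_add Data.D4.valid (lt24 h) u v

omit [CharP K 2] in
theorem x_add' {r : ℕ} (h : r < 24) (u v : K) (z : GL Data.D4.tbl.I K) :
    xx r u * (xx r v * z) = xx r (u + v) * z := by rw [← mul_assoc, x_add h]

omit [CharP K 2] in
theorem x_zero {r : ℕ} (h : r < 24) : xx r (0 : K) = 1 := xU_zero Data.D4.valid (lt24 h)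

omit [CharP K 2] in
theorem x_congr {r : ℕ} {a b : K} {z w : GL Data.D4.tbl.I K} (h : a = b) (hz : z = w) :
    xx r a * z = xx r b * w := by rw [h, hz]

/-- A product in orbit order. -/
noncomputable def nf (v : ℕ → K) : GL Data.D4.tbl.I K :=
  xx 18 (v 18) * (xx 13 (v 13) * (xx 12 (v 12) * (xx 14 (v 14) * (xx 19 (v 19) * (xx 16 (v 16) *
    (xx 15 (v 15) * (xx 21 (v 21) * (xx 17 (v 17) * (xx 20 (v 20) * (xx 22 (v 22) * xx 23 (v 23)))))))))))

/-- The fixed element with six coordinates. -/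
noncomputable def N (σ : K ≃+* K) (a b c d e g : K) : GL Data.D4.tbl.I K :=
  xx 18 a * (xx 13 (σ a) * (xx 12 (σ (σ a)) * (xx 14 b * (xx 19 c * (xx 16 (σ c) * (xx 15 (σ (σ c)) *
    (xx 21 d * (xx 17 (σ d) * (xx 20 (σ (σ d)) * (xx 22 e * xx 23 g))))))))))

theorem conjA {σ : K ≃+* K} (h3 : ∀ x, σ (σ (σ x)) = x) (x a b c d e g : K)
    (hb : σ b = b) (he : σ e = e) (hg : σ g = g) :
    N σ x 0 0 0 0 0 * N σ a b c d e g =
      N σ (a) (b) (b * x + c) (b * x * (σ x) + c * (σ x) + (σ c) * x + d) (b * x * (σ x) * (σ (σ x)) + c * (σ x) * (σ (σ x)) + (σ c) * x * (σ (σ x)) + (σ (σ c)) * x * (σ x) + d * (σ (σ x)) + (σ d) * x + (σ (σ d)) * (σ x) + e) (b * b * x * (σ x) * (σ (σ x)) + b * c * (σ x) * (σ (σ x)) + b * (σ c) * x * (σ (σ x)) + b * (σ (σ c)) * x * (σ x) + c * (σ c) * (σ (σ x)) + c * (σ (σ c)) * (σ x) + (σ c) * (σ (σ c)) * x + g) * N σ x 0 0 0 0 0 := by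
  simp only [N, Nat.reduceLT, x_add, x_add', x_zero, map_zero, mul_one, one_mul, mul_assoc, sw_12_13, sw_12_13', sw_12_18, sw_12_18', sw_13_18, sw_13_18', sw_14_12, sw_14_12', sw_14_13, sw_14_13', sw_14_18, sw_14_18', sw_15_12, sw_15_12', sw_15_13, sw_15_13', sw_15_14, sw_15_14', sw_15_16, sw_15_16', sw_15_18, sw_15_18', sw_15_19, sw_15_19', sw_16_12, sw_16_12', sw_16_13, sw_16_13', sw_16_14, sw_16_14', sw_16_18, sw_16_18', sw_16_19, sw_16_19', sw_17_12, sw_17_12', sw_17_13, sw_17_13', sw_17_14, sw_17_14', sw_17_15, sw_17_15', sw_17_16, sw_17_16', sw_17_18, sw_17_18', sw_17_19, sw_17_19', sw_17_21, sw_17_21', sw_19_12, sw_19_12', sw_19_13, sw_19_13', sw_19_14, sw_19_14', sw_19_18, sw_19_18', sw_20_12, sw_20_12', sw_20_13, sw_20_13', sw_20_14, sw_20_14', sw_20_15, sw_20_15', sw_20_16, sw_20_16', sw_20_17, sw_20_17', sw_20_18, sw_20_18', sw_20_19, sw_20_19', sw_20_21, sw_20_21', sw_21_12, sw_21_12', sw_21_13, sw_21_13', sw_21_14, sw_21_14',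 sw_21_15, sw_21_15', sw_21_16, sw_21_16', sw_21_18, sw_21_18', sw_21_19, sw_21_19', sw_22_12, sw_22_12', sw_22_13, sw_22_13', sw_22_14, sw_22_14', sw_22_15, sw_22_15', sw_22_16, sw_22_16', sw_22_17, sw_22_17', sw_22_18, sw_22_18', sw_22_19, sw_22_19', sw_22_20, sw_22_20', sw_22_21, sw_22_21', sw_23_12, sw_23_12', sw_23_13, sw_23_13', sw_23_14, sw_23_14', sw_23_15, sw_23_15', sw_23_16, sw_23_16', sw_23_17, sw_23_17', sw_23_18, sw_23_18', sw_23_19, sw_23_19', sw_23_20, sw_23_20', sw_23_21, sw_23_21', sw_23_22, sw_23_22']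
  have h2 : (2 : K) = 0 := CharTwo.two_eq_zero
  try simp only [map_add, map_mul, h3, hb, he, hg]
  repeat' apply x_congr
  all_goals try refine congrArg _ ?_
  all_goals first | rfl | ring1 | grind

theorem conjB {σ : K ≃+* K} (h3 : ∀ x, σ (σ (σ x)) = x) (y a b c d e g : K)
    (hb : σ b = b) (he : σ e = e) (hg : σ g = g) (hy : σ y = y) :
    N σ 0 y 0 0 0 0 * N σ a b c d e g =
      N σ (a) (b) (a * y + c) (a * (σ a) * y + d) (a * (σ a) * (σ (σ a)) * y + e) (a * (σ a) * (σ (σ a)) * b * y + a * (σ a) * (σ (σ c)) * y + a * (σ (σ a)) * (σ c) * y + (σ a) * (σ (σ a)) * c * y + e * y + g) * N σ 0 y 0 0 0 0 := by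
  simp only [N, Nat.reduceLT, x_add, x_add', x_zero, map_zero, mul_one, one_mul, mul_assoc, sw_12_13, sw_12_13', sw_12_18, sw_12_18', sw_13_18, sw_13_18', sw_14_12, sw_14_12', sw_14_13, sw_14_13', sw_14_18, sw_14_18', sw_15_12, sw_15_12', sw_15_13, sw_15_13', sw_15_14, sw_15_14', sw_15_16, sw_15_16', sw_15_18, sw_15_18', sw_15_19, sw_15_19', sw_16_12, sw_16_12', sw_16_13, sw_16_13', sw_16_14, sw_16_14', sw_16_18, sw_16_18', sw_16_19, sw_16_19', sw_17_12, sw_17_12', sw_17_13, sw_17_13', sw_17_14, sw_17_14', sw_17_15, sw_17_15', sw_17_16, sw_17_16', sw_17_18, sw_17_18', sw_17_19, sw_17_19', sw_17_21, sw_17_21', sw_19_12, sw_19_12', sw_19_13, sw_19_13', sw_19_14, sw_19_14', sw_19_18, sw_19_18', sw_20_12, sw_20_12', sw_20_13, sw_20_13', sw_20_14, sw_20_14', sw_20_15, sw_20_15', sw_20_16, sw_20_16', sw_20_17, sw_20_17', sw_20_18, sw_20_18', sw_20_19, sw_20_19', sw_20_21, sw_20_21', sw_21_12, sw_21_12', sw_21_13, sw_21_13', sw_21_14, sw_21_14',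 sw_21_15, sw_21_15', sw_21_16, sw_21_16', sw_21_18, sw_21_18', sw_21_19, sw_21_19', sw_22_12, sw_22_12', sw_22_13, sw_22_13', sw_22_14, sw_22_14', sw_22_15, sw_22_15', sw_22_16, sw_22_16', sw_22_17, sw_22_17', sw_22_18, sw_22_18', sw_22_19, sw_22_19', sw_22_20, sw_22_20', sw_22_21, sw_22_21', sw_23_12, sw_23_12', sw_23_13, sw_23_13', sw_23_14, sw_23_14', sw_23_15, sw_23_15', sw_23_16, sw_23_16', sw_23_17, sw_23_17', sw_23_18, sw_23_18', sw_23_19, sw_23_19', sw_23_20, sw_23_20', sw_23_21, sw_23_21', sw_23_22, sw_23_22']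
  have h2 : (2 : K) = 0 := CharTwo.two_eq_zero
  try simp only [map_add, map_mul, h3, hb, he, hg, hy]
  repeat' apply x_congr
  all_goals try refine congrArg _ ?_
  all_goals first | rfl | ring1 | grind

theorem conjC {σ : K ≃+* K} (h3 : ∀ x, σ (σ (σ x)) = x) (x a b c d e g : K)
    (hb : σ b = b) (he : σ e = e) (hg : σ g = g) :
    N σ 0 0 x 0 0 0 * N σ a b c d e g =
      N σ (a) (b) (c) (a * (σ x) + (σ a) * x + d) (a * (σ a) * (σ (σ x)) + a * (σ (σ a)) * (σ x) + (σ a) * (σ (σ a)) * x + e) (a * (σ a) * b * (σ (σ x)) + a * (σ (σ a)) * b * (σ x) + a * (σ c) * (σ (σ x)) + a * (σ (σ c)) * (σ x) + a * (σ x) * (σ (σ x)) + (σ a) * (σ (σ a)) * b * x + (σ a) * c * (σ (σ x)) + (σ a) * (σ (σ c)) * x + (σ a) * x * (σ (σ x)) + (σ (σ a)) * c * (σ x) + (σ (σ a)) * (σ c) * x + (σ (σ a)) * x * (σ x) + d * (σ (σ x)) + (σ d) * x + (σ (σ d)) * (σ x) + g) * N σ 0 0 x 0 0 0 := by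
  simp only [N, Nat.reduceLT, x_add, x_add', x_zero, map_zero, mul_one, one_mul, mul_assoc, sw_12_13, sw_12_13', sw_12_18, sw_12_18', sw_13_18, sw_13_18', sw_14_12, sw_14_12', sw_14_13, sw_14_13', sw_14_18, sw_14_18', sw_15_12, sw_15_12', sw_15_13, sw_15_13', sw_15_14, sw_15_14', sw_15_16, sw_15_16', sw_15_18, sw_15_18', sw_15_19, sw_15_19', sw_16_12, sw_16_12', sw_16_13, sw_16_13', sw_16_14, sw_16_14', sw_16_18, sw_16_18', sw_16_19, sw_16_19', sw_17_12, sw_17_12', sw_17_13, sw_17_13', sw_17_14, sw_17_14', sw_17_15, sw_17_15', sw_17_16, sw_17_16', sw_17_18, sw_17_18', sw_17_19, sw_17_19', sw_17_21, sw_17_21', sw_19_12, sw_19_12', sw_19_13, sw_19_13', sw_19_14, sw_19_14', sw_19_18, sw_19_18', sw_20_12, sw_20_12', sw_20_13, sw_20_13', sw_20_14, sw_20_14', sw_20_15, sw_20_15', sw_20_16, sw_20_16', sw_20_17, sw_20_17', sw_20_18, sw_20_18', sw_20_19, sw_20_19', sw_20_21, sw_20_21', sw_21_12, sw_21_12', sw_21_13, sw_21_13', sw_21_14, sw_21_14',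 sw_21_15, sw_21_15', sw_21_16, sw_21_16', sw_21_18, sw_21_18', sw_21_19, sw_21_19', sw_22_12, sw_22_12', sw_22_13, sw_22_13', sw_22_14, sw_22_14', sw_22_15, sw_22_15', sw_22_16, sw_22_16', sw_22_17, sw_22_17', sw_22_18, sw_22_18', sw_22_19, sw_22_19', sw_22_20, sw_22_20', sw_22_21, sw_22_21', sw_23_12, sw_23_12', sw_23_13, sw_23_13', sw_23_14, sw_23_14', sw_23_15, sw_23_15', sw_23_16, sw_23_16', sw_23_17, sw_23_17', sw_23_18, sw_23_18', sw_23_19, sw_23_19', sw_23_20, sw_23_20', sw_23_21, sw_23_21', sw_23_22, sw_23_22']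
  have h2 : (2 : K) = 0 := CharTwo.two_eq_zero
  try simp only [map_add, map_mul, h3, hb, he, hg]
  repeat' apply x_congr
  all_goals try refine congrArg _ ?_
  all_goals first | rfl | ring1 | grind

theorem conjD {σ : K ≃+* K} (h3 : ∀ x, σ (σ (σ x)) = x) (x a b c d e g : K)
    (hb : σ b = b) (he : σ e = e) (hg : σ g = g) :
    N σ 0 0 0 x 0 0 * N σ a b c d e g =
      N σ (a) (b) (c) (d) (a * (σ x) + (σ a) * (σ (σ x)) + (σ (σ a)) * x + e) (a * b * (σ x) + (σ a) * b * (σ (σ x)) + (σ (σ a)) * b * x + c * (σ x) + (σ c) * (σ (σ x)) + (σ (σ c)) * x + g) * N σ 0 0 0 x 0 0 := by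
  simp only [N, Nat.reduceLT, x_add, x_add', x_zero, map_zero, mul_one, one_mul, mul_assoc, sw_12_13, sw_12_13', sw_12_18, sw_12_18', sw_13_18, sw_13_18', sw_14_12, sw_14_12', sw_14_13, sw_14_13', sw_14_18, sw_14_18', sw_15_12, sw_15_12', sw_15_13, sw_15_13', sw_15_14, sw_15_14', sw_15_16, sw_15_16', sw_15_18, sw_15_18', sw_15_19, sw_15_19', sw_16_12, sw_16_12', sw_16_13, sw_16_13', sw_16_14, sw_16_14', sw_16_18, sw_16_18', sw_16_19, sw_16_19', sw_17_12, sw_17_12', sw_17_13, sw_17_13', sw_17_14, sw_17_14', sw_17_15, sw_17_15', sw_17_16, sw_17_16', sw_17_18, sw_17_18', sw_17_19, sw_17_19', sw_17_21, sw_17_21', sw_19_12, sw_19_12', sw_19_13, sw_19_13', sw_19_14, sw_19_14', sw_19_18, sw_19_18', sw_20_12, sw_20_12', sw_20_13, sw_20_13', sw_20_14, sw_20_14', sw_20_15, sw_20_15', sw_20_16, sw_20_16', sw_20_17, sw_20_17', sw_20_18, sw_20_18', sw_20_19, sw_20_19', sw_20_21, sw_20_21', sw_21_12, sw_21_12', sw_21_13, sw_21_13', sw_21_14, sw_21_14',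 sw_21_15, sw_21_15', sw_21_16, sw_21_16', sw_21_18, sw_21_18', sw_21_19, sw_21_19', sw_22_12, sw_22_12', sw_22_13, sw_22_13', sw_22_14, sw_22_14', sw_22_15, sw_22_15', sw_22_16, sw_22_16', sw_22_17, sw_22_17', sw_22_18, sw_22_18', sw_22_19, sw_22_19', sw_22_20, sw_22_20', sw_22_21, sw_22_21', sw_23_12, sw_23_12', sw_23_13, sw_23_13', sw_23_14, sw_23_14', sw_23_15, sw_23_15', sw_23_16, sw_23_16', sw_23_17, sw_23_17', sw_23_18, sw_23_18', sw_23_19, sw_23_19', sw_23_20, sw_23_20', sw_23_21, sw_23_21', sw_23_22, sw_23_22']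
  have h2 : (2 : K) = 0 := CharTwo.two_eq_zero
  try simp only [map_add, map_mul, h3, hb, he, hg]
  repeat' apply x_congr
  all_goals try refine congrArg _ ?_
  all_goals first | rfl | ring1 | grind

theorem conjE {σ : K ≃+* K} (h3 : ∀ x, σ (σ (σ x)) = x) (y a b c d e g : K)
    (hb : σ b = b) (he : σ e = e) (hg : σ g = g) (hy : σ y = y) :
    N σ 0 0 0 0 y 0 * N σ a b c d e g =
      N σ (a) (b) (c) (d) (e) (b * y + g) * N σ 0 0 0 0 y 0 := by
  simp only [N, Nat.reduceLT, x_add, x_add', x_zero, map_zero, mul_one, one_mul, mul_assoc, sw_12_13, sw_12_13', sw_12_18, sw_12_18', sw_13_18, sw_13_18', sw_14_12, sw_14_12', sw_14_13, sw_14_13', sw_14_18, sw_14_18', sw_15_12, sw_15_12', sw_15_13, sw_15_13', sw_15_14, sw_15_14', sw_15_16, sw_15_16', sw_15_18, sw_15_18', sw_15_19, sw_15_19', sw_16_12, sw_16_12', sw_16_13, sw_16_13', sw_16_14, sw_16_14', sw_16_18, sw_16_18', sw_16_19, sw_16_19', sw_17_12, sw_17_12', sw_17_13, sw_17_13', sw_17_14,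 sw_17_14', sw_17_15, sw_17_15', sw_17_16, sw_17_16', sw_17_18, sw_17_18', sw_17_19, sw_17_19', sw_17_21, sw_17_21', sw_19_12, sw_19_12', sw_19_13, sw_19_13', sw_19_14, sw_19_14', sw_19_18, sw_19_18', sw_20_12, sw_20_12', sw_20_13, sw_20_13', sw_20_14, sw_20_14', sw_20_15, sw_20_15', sw_20_16, sw_20_16', sw_20_17, sw_20_17', sw_20_18, sw_20_18', sw_20_19, sw_20_19', sw_20_21, sw_20_21', sw_21_12, sw_21_12', sw_21_13, sw_21_13', sw_21_14, sw_21_14', sw_21_15, sw_21_15', sw_21_16, sw_21_16', sw_21_18, sw_21_18', sw_21_19, sw_21_19', sw_22_12, sw_22_12', sw_22_13, sw_22_13', sw_22_14, sw_22_14', sw_22_15, sw_22_15', sw_22_16, sw_22_16', sw_22_17, sw_22_17', sw_22_18, sw_22_18', sw_22_19, sw_22_19', sw_22_20, sw_22_20', sw_22_21, sw_22_21', sw_23_12, sw_23_12', sw_23_13, sw_23_13', sw_23_14, sw_23_14', sw_23_15, sw_23_15', sw_23_16, sw_23_16', sw_23_17, sw_23_17', sw_23_18, sw_23_18', sw_23_19, sw_23_19', sw_23_20, sw_23_20', sw_23_21, sw_23_21',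 sw_23_22, sw_23_22']
  have h2 : (2 : K) = 0 := CharTwo.two_eq_zero
  try simp only [map_add, map_mul, h3, hb, he, hg, hy]
  repeat' apply x_congr
  all_goals try refine congrArg _ ?_
  all_goals first | rfl | ring1 | grind

theorem sq_collect {σ : K ≃+* K} (h3 : ∀ x, σ (σ (σ x)) = x) (a b c d e g : K)
    (hb : σ b = b) (he : σ e = e) (hg : σ g = g) :
    N σ a b c d e g * N σ a b c d e g = nf (fun r => if r = 18 then 0 else if r = 13 then 0 else if r = 12 then 0 else if r = 14 then 0 else if r = 19 then a * b else if r = 16 then (σ a) * b else if r = 15 then (σ (σ a)) * b else if r = 21 then a * (σ a) * b + a * (σ c) + (σ a) * c else if r = 17 then (σ a) * (σ (σ a)) * b + (σ a) * (σ (σ c)) + (σ (σ a)) * (σ c) else if r = 20 then a * (σ (σ a)) * b + a * (σ (σ c)) + (σ (σ a)) * c else if r = 22 then a * (σ a) * (σ (σ a)) * b + a * (σ a) * (σ (σ c)) + a * (σ (σ a)) * (σ c) + a * (σ d) + (σ a) * (σ (σ a)) * c + (σ a) * (σ (σ d)) + (σ (σ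 a)) * d else if r = 23 then a * (σ a) * b * (σ (σ c)) + a * (σ (σ a)) * b * (σ c) + a * b * (σ d) + a * (σ c) * (σ (σ c)) + (σ a) * (σ (σ a)) * b * c + (σ a) * b * (σ (σ d)) + (σ a) * c * (σ (σ c)) + (σ (σ a)) * b * d + (σ (σ a)) * c * (σ c) + b * e + c * (σ d) + (σ c) * (σ (σ d)) + (σ (σ c)) * d else 0) := by
  have h2 : (2 : K) = 0 := CharTwo.two_eq_zero
  simp only [N, nf, reduceIte, Nat.reduceEqDiff, Nat.reduceLT, x_add, x_add', x_zero, map_zero, mul_one, one_mul, mul_assoc, sw_12_13, sw_12_13', sw_12_18, sw_12_18', sw_13_18, sw_13_18', sw_14_12, sw_14_12', sw_14_13, sw_14_13', sw_14_18, sw_14_18', sw_15_12, sw_15_12', sw_15_13, sw_15_13', sw_15_14, sw_15_14', sw_15_16, sw_15_16', sw_15_18, sw_15_18', sw_15_19, sw_15_19', sw_16_12, sw_16_12', sw_16_13, sw_16_13', sw_16_14, sw_16_14', sw_16_18, sw_16_18', sw_16_19, sw_16_19', sw_17_12, sw_17_12', sw_17_13, sw_17_13', sw_17_14, sw_17_14', sw_17_15, sw_17_15', sw_17_16, sw_17_16', sw_17_18,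 sw_17_18', sw_17_19, sw_17_19', sw_17_21, sw_17_21', sw_19_12, sw_19_12', sw_19_13, sw_19_13', sw_19_14, sw_19_14', sw_19_18, sw_19_18', sw_20_12, sw_20_12', sw_20_13, sw_20_13', sw_20_14, sw_20_14', sw_20_15, sw_20_15', sw_20_16, sw_20_16', sw_20_17, sw_20_17', sw_20_18, sw_20_18', sw_20_19, sw_20_19', sw_20_21, sw_20_21', sw_21_12, sw_21_12', sw_21_13, sw_21_13', sw_21_14, sw_21_14', sw_21_15, sw_21_15', sw_21_16, sw_21_16', sw_21_18, sw_21_18', sw_21_19, sw_21_19', sw_22_12, sw_22_12', sw_22_13, sw_22_13', sw_22_14, sw_22_14', sw_22_15, sw_22_15', sw_22_16, sw_22_16', sw_22_17, sw_22_17', sw_22_18, sw_22_18', sw_22_19, sw_22_19', sw_22_20, sw_22_20', sw_22_21, sw_22_21', sw_23_12, sw_23_12', sw_23_13, sw_23_13', sw_23_14, sw_23_14', sw_23_15, sw_23_15', sw_23_16, sw_23_16', sw_23_17, sw_23_17', sw_23_18, sw_23_18', sw_23_19, sw_23_19', sw_23_20, sw_23_20', sw_23_21, sw_23_21', sw_23_22, sw_23_22']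
  simp only [map_add, map_mul, h3, hb, he, hg, CharTwo.add_self_eq_zero, Nat.reduceLT, x_zero, one_mul, mul_one]
  repeat' apply x_congr
  all_goals try refine congrArg _ ?_
  all_goals first | rfl | ring1 | grind

/-- The coordinates in the order of the roots. -/
def srtCoord (v : ℕ → K) : ℕ → K := (fun r => if r = 12 then (v 12) else if r = 13 then (v 13) else if r = 14 then (v 14) else if r = 15 then (v 15) else if r = 16 then (v 16) else if r = 17 then (v 17) else if r = 18 then (v 18) else if r = 19 then (v 14) * (v 18) + (v 19) else if r = 20 then (v 15) * (v 18) + (v 20) else if r = 21 then (v 16) * (v 18) + (v 21) else if r = 22 then (v 17) * (v 18) + (v 22) else if r = 23 then (v 14) * (v 17) * (v 18) + (v 15) * (v 16) * (v 18) + (v 17) * (v 19) + (v 23) else 0)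

theorem nf_sorted (v : ℕ → K) : nf v = Data.D4.tbl.gprod ([12, 13, 14, 15, 16, 17, 18, 19, 20, 21, 22, 23].map fun r => (r, srtCoord v r)) := by
  have h2 : (2 : K) = 0 := CharTwo.two_eq_zero
  simp only [nf, srtCoord, gprod, List.map_cons, List.map_nil, List.prod_cons, List.prod_nil, reduceIte, Nat.reduceEqDiff, mul_one,
    Nat.reduceLT, x_add, x_add', mul_assoc, sw_13_12, sw_13_12', sw_14_12, sw_14_12', sw_14_13, sw_14_13', sw_15_12, sw_15_12', sw_15_13, sw_15_13', sw_15_14, sw_15_14', sw_16_12, sw_16_12', sw_16_13, sw_16_13', sw_16_14, sw_16_14', sw_16_15, sw_16_15', sw_17_12, sw_17_12', sw_17_13, sw_17_13', sw_17_14, sw_17_14', sw_17_15, sw_17_15', sw_17_16, sw_17_16', sw_18_12, sw_18_12', sw_18_13, sw_18_13', sw_18_14, sw_18_14', sw_18_15, sw_18_15', sw_18_16, sw_18_16', sw_18_17, sw_18_17', sw_19_12, sw_19_12', sw_19_13, sw_19_13', sw_19_14, sw_19_14', sw_19_15, sw_19_15', sw_19_16, sw_19_16', sw_19_17, sw_19_17', sw_19_18, sw_19_18',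 sw_20_12, sw_20_12', sw_20_13, sw_20_13', sw_20_14, sw_20_14', sw_20_15, sw_20_15', sw_20_16, sw_20_16', sw_20_17, sw_20_17', sw_20_18, sw_20_18', sw_20_19, sw_20_19', sw_21_12, sw_21_12', sw_21_13, sw_21_13', sw_21_14, sw_21_14', sw_21_15, sw_21_15', sw_21_16, sw_21_16', sw_21_17, sw_21_17', sw_21_18, sw_21_18', sw_21_19, sw_21_19', sw_21_20, sw_21_20', sw_22_12, sw_22_12', sw_22_13, sw_22_13', sw_22_14, sw_22_14', sw_22_15, sw_22_15', sw_22_16, sw_22_16', sw_22_17, sw_22_17', sw_22_18, sw_22_18', sw_22_19, sw_22_19', sw_22_20, sw_22_20', sw_22_21, sw_22_21', sw_23_12, sw_23_12', sw_23_13, sw_23_13', sw_23_14, sw_23_14', sw_23_15, sw_23_15', sw_23_16, sw_23_16', sw_23_17, sw_23_17', sw_23_18, sw_23_18', sw_23_19, sw_23_19', sw_23_20, sw_23_20', sw_23_21, sw_23_21', sw_23_22, sw_23_22']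
  repeat' apply x_congr
  all_goals try refine congrArg _ ?_
  all_goals first | rfl | ring1 | grind

theorem exists_nf (f : ℕ → K) : ∃ v, Data.D4.tbl.gprod ([12, 13, 14, 15, 16, 17, 18, 19, 20, 21, 22, 23].map fun r => (r, f r)) = nf v := by
  have h2 : (2 : K) = 0 := CharTwo.two_eq_zero
  refine ⟨(fun r => if r = 18 then (f 18) else if r = 13 then (f 13) else if r = 12 then (f 12) else if r = 14 then (f 14) else if r = 19 then (f 14) * (f 18) + (f 19) else if r = 16 then (f 16) else if r = 15 then (f 15) else if r = 21 then (f 16) * (f 18) + (f 21) else if r = 17 then (f 17) else if r = 20 then (f 15) * (f 18) + (f 20) else if r = 22 then (f 17) * (f 18) + (f 22) else if r = 23 then (f 15) * (f 16) * (f 18) + (f 17) * (f 19) + (f 23) else 0), ?_⟩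
  simp only [nf, gprod, List.map_cons, List.map_nil, List.prod_cons, List.prod_nil, reduceIte, Nat.reduceEqDiff, mul_one,
    Nat.reduceLT, x_add, x_add', mul_assoc, sw_12_13, sw_12_13', sw_12_18, sw_12_18', sw_13_18, sw_13_18', sw_14_12, sw_14_12', sw_14_13, sw_14_13', sw_14_18, sw_14_18', sw_15_12, sw_15_12', sw_15_13, sw_15_13', sw_15_14, sw_15_14', sw_15_16, sw_15_16', sw_15_18, sw_15_18', sw_15_19, sw_15_19', sw_16_12, sw_16_12', sw_16_13, sw_16_13', sw_16_14, sw_16_14', sw_16_18, sw_16_18', sw_16_19, sw_16_19', sw_17_12, sw_17_12', sw_17_13, sw_17_13', sw_17_14, sw_17_14', sw_17_15, sw_17_15', sw_17_16, sw_17_16', sw_17_18, sw_17_18', sw_17_19, sw_17_19', sw_17_21, sw_17_21', sw_19_12, sw_19_12', sw_19_13, sw_19_13', sw_19_14, sw_19_14', sw_19_18, sw_19_18', sw_20_12, sw_20_12', sw_20_13, sw_20_13', sw_20_14, sw_20_14', sw_20_15, sw_20_15', sw_20_16, sw_20_16', sw_20_17, sw_20_17', sw_20_18, sw_20_18', sw_20_19, sw_20_19', sw_20_21,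 sw_20_21', sw_21_12, sw_21_12', sw_21_13, sw_21_13', sw_21_14, sw_21_14', sw_21_15, sw_21_15', sw_21_16, sw_21_16', sw_21_18, sw_21_18', sw_21_19, sw_21_19', sw_22_12, sw_22_12', sw_22_13, sw_22_13', sw_22_14, sw_22_14', sw_22_15, sw_22_15', sw_22_16, sw_22_16', sw_22_17, sw_22_17', sw_22_18, sw_22_18', sw_22_19, sw_22_19', sw_22_20, sw_22_20', sw_22_21, sw_22_21', sw_23_12, sw_23_12', sw_23_13, sw_23_13', sw_23_14, sw_23_14', sw_23_15, sw_23_15', sw_23_16, sw_23_16', sw_23_17, sw_23_17', sw_23_18, sw_23_18', sw_23_19, sw_23_19', sw_23_20, sw_23_20', sw_23_21, sw_23_21', sw_23_22, sw_23_22']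
  repeat' apply x_congr
  all_goals try refine congrArg _ ?_
  all_goals first | rfl | ring1 | grind

theorem nf_inj {v w : ℕ → K} (h : nf v = nf w) :
    ∀ r ∈ [18, 13, 12, 14, 19, 16, 15, 21, 17, 20, 22, 23], v r = w r := by
  rw [nf_sorted, nf_sorted] at h
  have key := gprod_inj Data.D4.valid Data.D4.chkComm (L := [12, 13, 14, 15, 16, 17, 18, 19, 20, 21, 22, 23])
    (by decide) (by decide +kernel) _ _ h
  have k18 : v 18 = w 18 := by
    have := key 18 (by simp)
    simp only [srtCoord, reduceIte, Nat.reduceEqDiff] at this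
    grind
  have k13 : v 13 = w 13 := by
    have := key 13 (by simp)
    simp only [srtCoord, reduceIte, Nat.reduceEqDiff] at this
    grind
  have k12 : v 12 = w 12 := by
    have := key 12 (by simp)
    simp only [srtCoord, reduceIte, Nat.reduceEqDiff] at this
    grind
  have k14 : v 14 = w 14 := by
    have := key 14 (by simp)
    simp only [srtCoord, reduceIte, Nat.reduceEqDiff] at this
    grind
  have k19 : v 19 = w 19 := by
    have := key 19 (by simp)
    simp only [srtCoord, reduceIte, Nat.reduceEqDiff] at this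
    grind
  have k16 : v 16 = w 16 := by
    have := key 16 (by simp)
    simp only [srtCoord, reduceIte, Nat.reduceEqDiff] at this
    grind
  have k15 : v 15 = w 15 := by
    have := key 15 (by simp)
    simp only [srtCoord, reduceIte, Nat.reduceEqDiff] at this
    grind
  have k21 : v 21 = w 21 := by
    have := key 21 (by simp)
    simp only [srtCoord, reduceIte, Nat.reduceEqDiff] at this
    grind
  have k17 : v 17 = w 17 := by
    have := key 17 (by simp)
    simp only [srtCoord, reduceIte, Nat.reduceEqDiff] at this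
    grind
  have k20 : v 20 = w 20 := by
    have := key 20 (by simp)
    simp only [srtCoord, reduceIte, Nat.reduceEqDiff] at this
    grind
  have k22 : v 22 = w 22 := by
    have := key 22 (by simp)
    simp only [srtCoord, reduceIte, Nat.reduceEqDiff] at this
    grind
  have k23 : v 23 = w 23 := by
    have := key 23 (by simp)
    simp only [srtCoord, reduceIte, Nat.reduceEqDiff] at this
    grind
  intro r hr
  simp only [List.mem_cons, List.not_mem_nil, or_false] at hr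
  rcases hr with rfl | rfl | rfl | rfl | rfl | rfl | rfl | rfl | rfl | rfl | rfl | rfl <;> assumption

theorem perm_collect (w : ℕ → K) :
    xx 13 (w 18) * (xx 12 (w 13) * (xx 18 (w 12) * (xx 14 (w 14) * (xx 16 (w 19) * (xx 15 (w 16) * (xx 19 (w 15) * (xx 17 (w 21) * (xx 20 (w 17) * (xx 21 (w 20) * (xx 22 (w 22) * (xx 23 (w 23)))))))))))) = nf (fun r => if r = 18 then (w 12) else if r = 13 then (w 18) else if r = 12 then (w 13) else if r = 14 then (w 14) else if r = 19 then (w 15) else if r = 16 then (w 19) else if r = 15 then (w 16) else if r = 21 then (w 20) else if r = 17 then (w 21) else if r = 20 then (w 17) else if r = 22 then (w 22) else if r = 23 then (w 23) else 0) := by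
  simp only [nf, reduceIte, Nat.reduceEqDiff, Nat.reduceLT, x_add, x_add', mul_assoc, sw_12_13, sw_12_13', sw_12_18, sw_12_18', sw_13_18, sw_13_18', sw_14_12, sw_14_12', sw_14_13, sw_14_13', sw_14_18, sw_14_18', sw_15_12, sw_15_12', sw_15_13, sw_15_13', sw_15_14, sw_15_14', sw_15_16, sw_15_16', sw_15_18, sw_15_18', sw_15_19, sw_15_19', sw_16_12, sw_16_12', sw_16_13, sw_16_13', sw_16_14, sw_16_14', sw_16_18, sw_16_18', sw_16_19, sw_16_19', sw_17_12, sw_17_12', sw_17_13, sw_17_13', sw_17_14, sw_17_14', sw_17_15, sw_17_15', sw_17_16, sw_17_16', sw_17_18, sw_17_18', sw_17_19, sw_17_19', sw_17_21, sw_17_21', sw_19_12, sw_19_12', sw_19_13, sw_19_13', sw_19_14, sw_19_14', sw_19_18, sw_19_18', sw_20_12, sw_20_12', sw_20_13, sw_20_13', sw_20_14, sw_20_14', sw_20_15, sw_20_15', sw_20_16, sw_20_16', sw_20_17, sw_20_17', sw_20_18, sw_20_18', sw_20_19, sw_20_19', sw_20_21, sw_20_21', sw_21_12, sw_21_12', sw_21_13, sw_21_13', sw_21_14, sw_21_14', sw_21_15,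 sw_21_15', sw_21_16, sw_21_16', sw_21_18, sw_21_18', sw_21_19, sw_21_19', sw_22_12, sw_22_12', sw_22_13, sw_22_13', sw_22_14, sw_22_14', sw_22_15, sw_22_15', sw_22_16, sw_22_16', sw_22_17, sw_22_17', sw_22_18, sw_22_18', sw_22_19, sw_22_19', sw_22_20, sw_22_20', sw_22_21, sw_22_21', sw_23_12, sw_23_12', sw_23_13, sw_23_13', sw_23_14, sw_23_14', sw_23_15, sw_23_15', sw_23_16, sw_23_16', sw_23_17, sw_23_17', sw_23_18, sw_23_18', sw_23_19, sw_23_19', sw_23_20, sw_23_20', sw_23_21, sw_23_21', sw_23_22, sw_23_22']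

omit [CharP K 2] in
theorem N_eq_nf (σ : K ≃+* K) (a b c d e g : K) :
    N σ a b c d e g = nf (fun r => if r = 18 then a else if r = 13 then (σ a) else if r = 12 then (σ (σ a)) else if r = 14 then b else if r = 19 then c else if r = 16 then (σ c) else if r = 15 then (σ (σ c)) else if r = 21 then d else if r = 17 then (σ d) else if r = 20 then (σ (σ d)) else if r = 22 then e else if r = 23 then g else 0) := by
  simp only [N, nf, reduceIte, Nat.reduceEqDiff]

end CfsgLib.D4Inv
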