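import Cfsg.Agent.Lib.KnownB.D4Inv.Classes

/-!
Exactly two classes of involutions in ³D₄(q), q even.
-/

set_option autoImplicit false
set_option maxRecDepth 20000
set_option linter.all false
set_option Elab.async false

namespace CfsgLib.D4Inv

open CfsgLib.Chevalley CfsgLib.Chevalley.Tbl

variable {K : Type*} [Field K] [CharP K 2] [Finite K] {q : ℕ} (hq : IsPrimePow q) (hK : Nat.card K = q ^ 3)

local notation "σ" => Twist.D4.fq hq hK
local notation "SS" => AbSetup.S (Twist.D4.setup hq hK)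

include hq hK in
theorem exists_two_pow : ∃ f : ℕ, 1 ≤ f ∧ q = 2 ^ f := by
  have := Fintype.ofFinite K
  obtain ⟨n, -, hn⟩ := FiniteField.card K 2
  rw [← Nat.card_eq_fintype_card, hK] at hn
  have hdvd : q ∣ 2 ^ (n : ℕ) := hn ▸ dvd_pow_self q (by norm_num)
  obtain ⟨f, -, rfl⟩ := (Nat.dvd_prime_pow Nat.prime_two).mp hdvd
  refine ⟨f, ?_, rfl⟩
  rcases Nat.eq_zero_or_pos f with rfl | hf
  · exact absurd hq (by simpa using not_isPrimePow_one)
  · exact hf

theorem involution_class (s : ↥(SS).fix) (hs : orderOf s = 2) :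
    Cj hq hK (s : GL Data.D4.tbl.I K) (N σ 1 0 0 0 0 0) ∨
      Cj hq hK (s : GL Data.D4.tbl.I K) (N σ 0 0 0 0 0 1) := by
  have : Fact (Nat.Prime 2) := ⟨Nat.prime_two⟩
  have hV := Data.D4.valid
  have hcard := Twist.D4.card_eq hq hK
  rw [Twist.D4.G_eq hq hK] at hcard
  let P : Subgroup ↥(SS).fix := (Data.D4.tbl.datum.posUnipotent K).subgroupOf (SS).fix
  have hPcard : Nat.card ↥P = q ^ 12 := by
    rw [show P = (Data.D4.tbl.datum.posUnipotent K ⊓ (SS).fix).subgroupOf (SS).fix from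
      (Subgroup.inf_subgroupOf_right _ _).symm,
      Nat.card_congr (Subgroup.subgroupOfEquivOfLe inf_le_right).toEquiv,
      ((Twist.D4.setup hq hK).card_Upos (Twist.D4.hcard hq hK)).1,
      show Data.D4.tbl.half = 12 by decide +kernel]
  obtain ⟨f, hf, hf2⟩ := exists_two_pow hq hK
  have hP : IsPGroup 2 ↥P := IsPGroup.of_card (n := f * 12) (by rw [hPcard, hf2, ← pow_mul])
  have hindex : ¬ 2 ∣ P.index := by
    intro hd
    have h1 := P.card_mul_index
    rw [hPcard, hcard, mul_assoc, mul_assoc] at h1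
    have hq1 : 1 ≤ q := Twist.D4.one_le hq
    rw [Nat.eq_of_mul_eq_mul_left (pow_pos hq1 12) h1] at hd
    have heven : Even q := by rw [hf2]; exact (Nat.even_pow' (by omega)).mpr even_two
    have h2 : Odd ((q ^ 2 - 1) * ((q ^ 6 - 1) * (q ^ 8 + q ^ 4 + 1))) := by
      refine (Nat.Even.sub_odd (Nat.one_le_pow _ _ hq1) (heven.pow_of_ne_zero (by norm_num)) odd_one).mul
        ((Nat.Even.sub_odd (Nat.one_le_pow _ _ hq1) (heven.pow_of_ne_zero (by norm_num)) odd_one).mul ?_)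
      exact ((heven.pow_of_ne_zero (by norm_num)).add (heven.pow_of_ne_zero (by norm_num))).add_one
    exact (Nat.not_even_iff_odd.mpr h2) (even_iff_two_dvd.mpr hd)
  have hz : IsPGroup 2 ↥(Subgroup.zpowers s) :=
    IsPGroup.of_card (n := 1) (by rw [Nat.card_zpowers, hs, pow_one])
  obtain ⟨Q, hQ⟩ := hz.exists_le_sylow
  obtain ⟨g, hg⟩ := MulAction.exists_smul_eq ↥(SS).fix Q (hP.toSylow hindex)
  have hmem : g * s * g⁻¹ ∈ P := by
    have := Subgroup.smul_mem_pointwise_smul s (MulAut.conj g) (Q : Subgroup ↥(SS).fix)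
      (hQ (Subgroup.mem_zpowers s))
    rw [← Sylow.coe_subgroup_smul, hg] at this
    exact this
  have hss : s * s = 1 := by rw [← pow_two, ← hs, pow_orderOf_eq_one]
  have hne : s ≠ 1 := fun e => by rw [e, orderOf_one] at hs; exact absurd hs (by norm_num)
  have hcj : Cj hq hK (s : GL Data.D4.tbl.I K) ((g * s * g⁻¹ : ↥(SS).fix) : GL Data.D4.tbl.I K) :=
    ⟨g, g.2, by rw [← Subgroup.coe_mul, ← Subgroup.coe_mul, inv_mul_cancel_right]⟩
  have hpos := pos_class hq hK
    ((posUnipotent_rootGen (F := K) hV) ▸ Subgroup.mem_subgroupOf.mp hmem) (g * s * g⁻¹).2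
    (by rw [← Subgroup.coe_mul, conj_mul, hss, mul_one, mul_inv_cancel, Subgroup.coe_one])
    (fun e => hne (conj_eq_one_iff.mp (Subtype.ext e)))
  exact hpos.imp (cj_trans hq hK hcj) (cj_trans hq hK hcj)

theorem class_count :
    (ConjClasses.mk '' {g : ↥(SS).fix | orderOf g = 2}).ncard = 2 := by
  let A : ↥(SS).fix := ⟨_, N_fix hq hK (a := (1 : K)) (b := 0) (c := 0) (d := 0) (e := 0) (g := 0)
    (map_zero _) (map_zero _) (map_zero _)⟩
  let F : ↥(SS).fix := ⟨_, N_fix hq hK (a := (0 : K)) (b := 0) (c := 0) (d := 0) (e := 0) (g := 1)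
    (map_zero _) (map_zero _) (map_one _)⟩
  have hord : ∀ (u : ↥(SS).fix) (a g : K), σ g = g → (u : GL Data.D4.tbl.I K) = N σ a 0 0 0 0 g →
      N σ a 0 0 0 0 g ≠ 1 → orderOf u = 2 := by
    intro u a g hg hu hne
    refine orderOf_eq_prime ?_ fun e => hne (by rw [← hu, e]; rfl)
    refine Subtype.ext ?_
    rw [pow_two, Subgroup.coe_mul, hu, Subgroup.coe_one,
      sq_collect (h3 hq hK) a 0 0 0 0 g (map_zero _) (map_zero _) hg, ← N_zero hq hK, N_eq_nf]
    congr 1
    funext r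
    simp only [map_zero, mul_zero, zero_mul, add_zero, ite_self]
  have hA1 : N σ (1 : K) 0 0 0 0 0 ≠ 1 := fun e =>
    one_ne_zero (N_inj hq hK (e.trans (N_zero hq hK).symm)).1
  have hF1 : N σ (0 : K) 0 0 0 0 1 ≠ 1 := fun e =>
    one_ne_zero (N_inj hq hK (e.trans (N_zero hq hK).symm)).2.2.2.2.2
  have hne : ConjClasses.mk A ≠ ConjClasses.mk F := by
    intro e
    obtain ⟨c, hc⟩ := isConj_iff.mp (ConjClasses.mk_eq_mk_iff_isConj.mp e)
    refine not_cj hq hK (cj_symm hq hK ⟨c, c.2, ?_⟩)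
    have := congrArg Subtype.val (mul_inv_eq_iff_eq_mul.mp hc)
    exact this
  have hmk : ∀ {u : ↥(SS).fix} {v : ↥(SS).fix}, Cj hq hK (u : GL Data.D4.tbl.I K) v →
      ConjClasses.mk u = ConjClasses.mk v := by
    rintro u v ⟨h, hh, e⟩
    refine ConjClasses.mk_eq_mk_iff_isConj.mpr (isConj_iff.mpr ⟨⟨h, hh⟩, ?_⟩)
    rw [mul_inv_eq_iff_eq_mul]
    exact Subtype.ext e
  suffices ConjClasses.mk '' {g : ↥(SS).fix | orderOf g = 2} =
      {ConjClasses.mk A, ConjClasses.mk F} by rw [this, Set.ncard_pair hne]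
  ext x
  constructor
  · rintro ⟨s, hs, rfl⟩
    rcases involution_class hq hK s hs with h | h
    · exact Or.inl (hmk (v := A) h)
    · exact Or.inr (hmk (v := F) h)
  · rintro (rfl | rfl)
    · exact ⟨A, hord A 1 0 (map_zero _) rfl hA1, rfl⟩
    · exact ⟨F, hord F 0 1 (map_one _) rfl hF1, rfl⟩

end CfsgLib.D4Inv
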