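import Cfsg.Agent.Lib.KnownB.D4Inv.Fix

/-!
Conjugating fixed positive elements of ³D₄ in characteristic two.
-/

set_option autoImplicit false
set_option maxRecDepth 20000
set_option maxHeartbeats 800000
set_option linter.all false
set_option Elab.async false

namespace CfsgLib.D4Inv

open CfsgLib.Chevalley CfsgLib.Chevalley.Tbl

variable {K : Type*} [Field K] [CharP K 2] [Finite K] {q : ℕ} (hq : IsPrimePow q) (hK : Nat.card K = q ^ 3)

local notation "xx" => Data.D4.tbl.xU K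
local notation "σ" => Twist.D4.fq hq hK
local notation "SS" => AbSetup.S (Twist.D4.setup hq hK)
local notation "nn" => Data.D4.tbl.nU K

/-- Conjugate by a fixed element. -/
def Cj (u v : GL Data.D4.tbl.I K) : Prop := ∃ h ∈ (SS).fix, h * u = v * h

omit [CharP K 2] in
theorem cj_refl (u : GL Data.D4.tbl.I K) : Cj hq hK u u := ⟨1, one_mem _, by simp⟩

omit [CharP K 2] in
theorem cj_trans {u v w : GL Data.D4.tbl.I K} : Cj hq hK u v → Cj hq hK v w → Cj hq hK u w :=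
  fun ⟨h, hh, e⟩ ⟨k, hk, e'⟩ => ⟨k * h, mul_mem hk hh, by rw [mul_assoc, e, ← mul_assoc, e', mul_assoc]⟩

omit [CharP K 2] in
theorem cj_symm {u v : GL Data.D4.tbl.I K} : Cj hq hK u v → Cj hq hK v u :=
  fun ⟨h, hh, e⟩ => ⟨h⁻¹, inv_mem hh, by
    rw [inv_mul_eq_iff_eq_mul, ← mul_assoc, e, mul_inv_cancel_right]⟩

omit [CharP K 2] in
theorem cj_mul_self {u v : GL Data.D4.tbl.I K} (hc : Cj hq hK u v) (hu : u * u = 1) : v * v = 1 := by
  obtain ⟨h, -, e⟩ := hc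
  have e' : h * u * h⁻¹ = v := by rw [e, mul_inv_cancel_right]
  rw [← e', conj_mul, hu, mul_one, mul_inv_cancel]

theorem moveA (x a b c d e g : K) (hb : σ b = b) (he : σ e = e) (hg : σ g = g) :
    ∃ c' d' e' g', c' = b * x + c ∧ σ e' = e' ∧ σ g' = g' ∧
      d' = b * x * (σ x) + c * (σ x) + (σ c) * x + d ∧
      e' = b * x * (σ x) * (σ (σ x)) + c * (σ x) * (σ (σ x)) + (σ c) * x * (σ (σ x)) +
        (σ (σ c)) * x * (σ x) + d * (σ (σ x)) + (σ d) * x + (σ (σ d)) * (σ x) + e ∧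
      (b = 0 → c = 0 → g' = g) ∧
      Cj hq hK (N σ a b c d e g) (N σ a b c' d' e' g') := by
  refine ⟨_, _, _, _, rfl, ?_, ?_, rfl, rfl, ?_, ⟨N σ x 0 0 0 0 0,
    N_fix hq hK (map_zero _) (map_zero _) (map_zero _), conjA (h3 hq hK) x a b c d e g hb he hg⟩⟩
  · simp only [map_add, map_mul, h3 hq hK, hb, he]; ring
  · simp only [map_add, map_mul, h3 hq hK, hb, hg]; ring
  · intro hb0 hc0
    simp [hb0, hc0]

theorem moveB (y a b c d e g : K) (hy : σ y = y) (hb : σ b = b) (he : σ e = e) (hg : σ g = g) :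
    ∃ d' e' g', σ e' = e' ∧ σ g' = g' ∧
      (a = 0 → d' = d ∧ e' = e ∧ g' = e * y + g) ∧
      Cj hq hK (N σ a b c d e g) (N σ a b (a * y + c) d' e' g') := by
  refine ⟨_, _, _, ?_, ?_, ?_, ⟨N σ 0 y 0 0 0 0,
    N_fix hq hK hy (map_zero _) (map_zero _), conjB (h3 hq hK) y a b c d e g hb he hg hy⟩⟩
  · simp only [map_add, map_mul, h3 hq hK, hy, he]; ring
  · simp only [map_add, map_mul, h3 hq hK, hb, hy, he, hg]; ring
  · intro ha
    simp [ha]

theorem moveC (x a b c d e g : K) (hb : σ b = b) (he : σ e = e) (hg : σ g = g) :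
    ∃ e' g', σ e' = e' ∧ σ g' = g' ∧
      e' = a * (σ a) * (σ (σ x)) + a * (σ (σ a)) * (σ x) + (σ a) * (σ (σ a)) * x + e ∧
      (b = 0 → c = 0 → g' = a * (σ x) * (σ (σ x)) + (σ a) * x * (σ (σ x)) + (σ (σ a)) * x * (σ x) +
        d * (σ (σ x)) + (σ d) * x + (σ (σ d)) * (σ x) + g) ∧
      Cj hq hK (N σ a b c d e g) (N σ a b c (a * (σ x) + (σ a) * x + d) e' g') := by
  refine ⟨_, _, ?_, ?_, rfl, ?_, ⟨N σ 0 0 x 0 0 0,
    N_fix hq hK (map_zero _) (map_zero _) (map_zero _), conjC (h3 hq hK) x a b c d e g hb he hg⟩⟩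
  · simp only [map_add, map_mul, h3 hq hK, he]; ring
  · simp only [map_add, map_mul, h3 hq hK, hb, hg]; ring
  · intro hb0 hc0
    subst hb0 hc0
    simp

theorem moveD (x a b c d e g : K) (hb : σ b = b) (he : σ e = e) (hg : σ g = g) :
    ∃ e' g', σ e' = e' ∧ σ g' = g' ∧ e' = a * (σ x) + (σ a) * (σ (σ x)) + (σ (σ a)) * x + e ∧
      (b = 0 → c = 0 → g' = g) ∧
      Cj hq hK (N σ a b c d e g) (N σ a b c d e' g') := by
  refine ⟨_, _, ?_, ?_, rfl, ?_, ⟨N σ 0 0 0 x 0 0,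
    N_fix hq hK (map_zero _) (map_zero _) (map_zero _), conjD (h3 hq hK) x a b c d e g hb he hg⟩⟩
  · simp only [map_add, map_mul, h3 hq hK, he]; ring
  · simp only [map_add, map_mul, h3 hq hK, hb, hg]; ring
  · intro hb0 hc0
    simp [hb0, hc0]

theorem moveE (y a b c d e g : K) (hy : σ y = y) (hb : σ b = b) (he : σ e = e) (hg : σ g = g) :
    Cj hq hK (N σ a b c d e g) (N σ a b c d e (b * y + g)) :=
  ⟨N σ 0 0 0 0 y 0, N_fix hq hK (map_zero _) hy (map_zero _),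
    conjE (h3 hq hK) y a b c d e g hb he hg hy⟩

theorem moveG (y a b c d e g : K) (hy : σ y = y) :
    N σ 0 0 0 0 0 y * N σ a b c d e g = N σ a b c d e g * N σ 0 0 0 0 0 y := by
  simp only [N, map_zero, x_zero, Nat.reduceLT, mul_one, one_mul, mul_assoc, sw_23_12, sw_23_12',
    sw_23_13, sw_23_13', sw_23_14, sw_23_14', sw_23_15, sw_23_15', sw_23_16, sw_23_16', sw_23_17,
    sw_23_17', sw_23_18, sw_23_18', sw_23_19, sw_23_19', sw_23_20, sw_23_20', sw_23_21, sw_23_21',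
    sw_23_22, sw_23_22', x_add, x_add', add_comm]

theorem torus_move (f : Fin Data.D4.tbl.rank → Kˣ) (h1 : f (1 : Fin 4) ^ q = f (1 : Fin 4))
    (h2 : f (2 : Fin 4) = f (0 : Fin 4) ^ q) (h4 : f (3 : Fin 4) = (f (0 : Fin 4) ^ q) ^ q)
    {l l' : List (ℕ × K)} (hl : ∀ p ∈ l, p.1 < 24)
    (hl' : l.map (fun p => (p.1, ((∏ i, f i ^ Data.D4.tbl.ca i p.1 : Kˣ) : K) * p.2)) = l') :
    Cj hq hK (Data.D4.tbl.gprod l) (Data.D4.tbl.gprod l') := by
  have hmem : torusHom Data.D4.tbl K f ∈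
      Data.D4.tbl.datum.diagonalSubgroup K ⊓ (SS).fix := by
    rw [Twist.D4.diag_fix hq hK]
    exact ⟨f, (Twist.D4.mem_tauFix hq hK).mpr ⟨h1, h2, h4⟩, rfl⟩
  have hχ : Data.D4.tbl.IsChar (fun s => ∏ i, f i ^ Data.D4.tbl.ca i s) := by
    refine ⟨fun r hr => ?_, fun a ha b hb u N h => ?_⟩
    · rw [← Finset.prod_inv_distrib]
      exact Finset.prod_congr rfl fun i _ => by
        rw [ca_neg Data.D4.valid hr i.2, _root_.zpow_neg]
    · rw [← Finset.prod_mul_distrib]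
      exact Finset.prod_congr rfl fun i _ => by
        rw [ca_sum Data.D4.valid ha hb h i.2, _root_.zpow_add]
  refine ⟨_, (Subgroup.mem_inf.mp hmem).2, ?_⟩
  subst hl'
  exact dU_gprod Data.D4.valid hχ fun p hp => lt24 (hl p hp)

theorem sg_nn {r : ℕ} (hr : r < 24) : (SS).sg (nn r 1) = nn (Data.D4.graph.ρ r) 1 := by
  refine ((SS).sg_nU ⟨r, lt24 hr⟩ 1).trans ?_
  show nn (Data.D4.graph.ρ r) (Data.D4.graph.par r (σ 1)) = _
  obtain ⟨he, hl⟩ := graph_facts r hr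
  rw [RootMap.par, hl, pow_one, map_one]
  rcases he with he | he <;> simp [he, CharTwo.neg_eq]

omit [Finite K] in
theorem nn_simple (i : ℕ) (hi : i < 4) {s : ℕ} (hs : s < 24) (t : K) :
    nn (Data.D4.tbl.simple i) 1 * xx s t =
      xx (Data.D4.tbl.refl i s) t * nn (Data.D4.tbl.simple i) 1 := by
  have hi' : i < Data.D4.tbl.rank := hi
  rw [nU_simple_xU Data.D4.valid hi' (lt24 hs)]
  rcases eta_sq Data.D4.valid hi' (lt24 hs) with e | e <;> simp [e, CharTwo.neg_eq]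

/-- The reflection of the orbit of one root. -/
noncomputable def w0 : GL Data.D4.tbl.I K := nn 14 1

/-- The reflection of the orbit of three roots. -/
noncomputable def w1 : GL Data.D4.tbl.I K := nn 18 1 * nn 13 1 * nn 12 1

omit [CharP K 2] [Finite K] in
theorem xcomm {r s : ℕ} (hr : r < 24) (hs : s < 24) (hne : s ≠ r) (hnn : s ≠ Data.D4.tbl.neg r)
    (h : Data.D4.tbl.commT r s = []) (t u : K) : Commute (xx r t) (xx s u) := by
  have e := comm_xU Data.D4.valid Data.D4.chkComm (lt24 hr) (lt24 hs) hne hnn t u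
  rw [h] at e
  simp only [List.map_nil, List.prod_nil, mul_one] at e
  exact e.symm

omit [CharP K 2] [Finite K] in
theorem ncomm : Commute (nn 18 1) (nn 13 1) ∧ Commute (nn 18 1) (nn 12 1) ∧
    Commute (nn 13 1) (nn 12 1) := by
  have key : ∀ r s : ℕ, r < 24 → s < 24 →
      (∀ r' ∈ [r, Data.D4.tbl.neg r], ∀ s' ∈ [s, Data.D4.tbl.neg s], r' < 24 ∧ s' < 24 ∧
        s' ≠ r' ∧ s' ≠ Data.D4.tbl.neg r' ∧ Data.D4.tbl.commT r' s' = []) →
      Commute (nn r 1) (nn s 1) := by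
    intro r s _ _ h
    have hc : ∀ r' ∈ [r, Data.D4.tbl.neg r], ∀ s' ∈ [s, Data.D4.tbl.neg s], ∀ t u : K,
        Commute (xx r' t) (xx s' u) := fun r' hr' s' hs' => by
      obtain ⟨h1, h2, h3, h4, h5⟩ := h r' hr' s' hs'
      exact xcomm h1 h2 h3 h4 h5
    have hx : ∀ r' ∈ [r, Data.D4.tbl.neg r], ∀ t : K, Commute (xx r' t) (nn s 1) := fun r' hr' t =>
      ((hc r' hr' s (by simp) t _).mul_right (hc r' hr' _ (by simp) t _)).mul_right
        (hc r' hr' s (by simp) t _)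
    exact ((hx r (by simp) _).mul_left (hx _ (by simp) _)).mul_left (hx r (by simp) _)
  exact ⟨key 18 13 (by norm_num) (by norm_num) (by decide +kernel),
    key 18 12 (by norm_num) (by norm_num) (by decide +kernel),
    key 13 12 (by norm_num) (by norm_num) (by decide +kernel)⟩

theorem w0_fix : (w0 : GL Data.D4.tbl.I K) ∈ (SS).fix :=
  ⟨nU_mem_group Data.D4.valid (lt24 (by norm_num)) _, by
    rw [w0, sg_nn hq hK (by norm_num)]; rfl⟩

theorem w1_fix : (w1 : GL Data.D4.tbl.I K) ∈ (SS).fix := by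
  have hG : ∀ r < 24, nn r 1 ∈ Data.D4.tbl.datum.group K := fun r hr =>
    nU_mem_group Data.D4.valid (lt24 hr) _
  refine ⟨mul_mem (mul_mem (hG 18 (by norm_num)) (hG 13 (by norm_num))) (hG 12 (by norm_num)), ?_⟩
  rw [w1, (SS).sg_mul (mul_mem (hG 18 (by norm_num)) (hG 13 (by norm_num))) (hG 12 (by norm_num)),
    (SS).sg_mul (hG 18 (by norm_num)) (hG 13 (by norm_num)), sg_nn hq hK (by norm_num),
    sg_nn hq hK (by norm_num), sg_nn hq hK (by norm_num)]
  show nn 13 1 * nn 12 1 * nn 18 1 = _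
  obtain ⟨k1, k2, k3⟩ := ncomm (K := K)
  rw [(k1.mul_right k2).symm.eq, mul_assoc]

omit [Finite K] in
theorem w0_x {s s' : ℕ} (hs : s < 24) (h : Data.D4.tbl.refl 1 s = s') (t : K) :
    w0 * xx s t = xx s' t * w0 := by
  have e := nn_simple 1 (by norm_num) hs t
  rw [h, show Data.D4.tbl.simple 1 = 14 by decide +kernel] at e
  exact e

omit [Finite K] in
theorem w1_x {s s₁ s₂ s₃ : ℕ} (hs : s < 24) (h₁ : Data.D4.tbl.refl 3 s = s₁)
    (h₂ : Data.D4.tbl.refl 2 s₁ = s₂) (h₃ : Data.D4.tbl.refl 0 s₂ = s₃)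
    (hb₁ : s₁ < 24) (hb₂ : s₂ < 24) (t : K) : w1 * xx s t = xx s₃ t * w1 := by
  have e1 := nn_simple 3 (by norm_num) hs t
  have e2 := nn_simple 2 (by norm_num) hb₁ t
  have e3 := nn_simple 0 (by norm_num) hb₂ t
  rw [h₁, show Data.D4.tbl.simple 3 = 12 by decide +kernel] at e1
  rw [h₂, show Data.D4.tbl.simple 2 = 13 by decide +kernel] at e2
  rw [h₃, show Data.D4.tbl.simple 0 = 18 by decide +kernel] at e3
  rw [w1, mul_assoc, e1, ← mul_assoc, mul_assoc (nn 18 1) (nn 13 1), e2, ← mul_assoc (nn 18 1), e3]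
  simp only [mul_assoc]

/-- The short coordinates go to the simple orbit. -/
theorem moveW0 (c d e g : K) :
    Cj hq hK (N σ 0 0 c d e g) (N σ c 0 0 d g e) := by
  refine ⟨w0, w0_fix hq hK, ?_⟩
  have k : ∀ s ∈ [(19, 18), (16, 13), (15, 12), (21, 21), (17, 17), (20, 20), (22, 23), (23, 22)],
      s.1 < 24 ∧ Data.D4.tbl.refl 1 s.1 = s.2 := by decide +kernel
  have kk : ∀ s ∈ [(19, 18), (16, 13), (15, 12), (21, 21), (17, 17), (20, 20), (22, 23), (23, 22)],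
      ∀ (t : K) (z : GL Data.D4.tbl.I K), w0 * (xx s.1 t * z) = xx s.2 t * (w0 * z) := fun s hs t z => by
    rw [← mul_assoc, w0_x (k s hs).1 (k s hs).2, mul_assoc]
  simp only [N, map_zero, x_zero, Nat.reduceLT, one_mul, mul_one, mul_assoc]
  rw [kk (19, 18) (by simp), kk (16, 13) (by simp), kk (15, 12) (by simp), kk (21, 21) (by simp),
    kk (17, 17) (by simp), kk (20, 20) (by simp), kk (22, 23) (by simp),
    w0_x (k (23, 22) (by simp)).1 (k (23, 22) (by simp)).2]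
  rw [← mul_assoc (xx 23 e), sw_23_22, mul_assoc]

theorem moveW1 (b d : K) :
    Cj hq hK (N σ 0 b 0 d 0 0) (N σ 0 0 (σ d) 0 b 0) := by
  refine ⟨w1, w1_fix hq hK, ?_⟩
  have k : ∀ s ∈ [(14, 22), (21, 15), (17, 19), (20, 16)],
      s.1 < 24 ∧ Data.D4.tbl.refl 3 s.1 < 24 ∧ Data.D4.tbl.refl 2 (Data.D4.tbl.refl 3 s.1) < 24 ∧
      Data.D4.tbl.refl 0 (Data.D4.tbl.refl 2 (Data.D4.tbl.refl 3 s.1)) = s.2 := by decide +kernel
  have kx : ∀ s ∈ [(14, 22), (21, 15), (17, 19), (20, 16)], ∀ t : K,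
      w1 * xx s.1 t = xx s.2 t * w1 := fun s hs t => by
    obtain ⟨h1, h2, h3', h4⟩ := k s hs
    exact w1_x h1 rfl rfl h4 h2 h3' t
  have kk : ∀ s ∈ [(14, 22), (21, 15), (17, 19), (20, 16)], ∀ (t : K) (z : GL Data.D4.tbl.I K),
      w1 * (xx s.1 t * z) = xx s.2 t * (w1 * z) := fun s hs t z => by
    rw [← mul_assoc, kx s hs, mul_assoc]
  simp only [N, map_zero, x_zero, Nat.reduceLT, one_mul, mul_one, mul_assoc, h3 hq hK]
  rw [kk (14, 22) (by simp), kk (21, 15) (by simp), kk (17, 19) (by simp), kx (20, 16) (by simp)]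
  simp only [mul_assoc, sw_22_15', sw_22_19', sw_22_16, sw_22_16', sw_22_15, sw_22_19,
    sw_16_19', sw_15_19', sw_15_16', sw_16_19, sw_15_19, sw_15_16]

end CfsgLib.D4Inv
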